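import Mathlib.GroupTheory.Coset.Card
import Mathlib.Algebra.Group.Subgroup.Finite
import Mathlib.SetTheory.Cardinal.Finite
import Mathlib.Algebra.Group.Hom.Basic
import Mathlib.Algebra.Group.Subgroup.Lattice
import Mathlib.Tactic.Abel
import Mathlib.SetTheory.Cardinal.NatCard
import Mathlib.Data.Set.Card
import Mathlib.Algebra.Group.Subgroup.Pointwise
import Mathlib.GroupTheory.Index
import Mathlib.GroupTheory.Subgroup.Centralizer
import Mathlib.Tactic.Group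
import Mathlib.Tactic.Set

-- merged: Cfsg.Agent.Omega.OmThm.TT
section

/-!
# LEMMA TT (bb OMEGA #17612)

`L` is a finite elementary abelian 2-group, `PP` a set of subgroups (points) of order `q` which meet pairwise trivially,
`T p` (for a point `p`) an additive group of endomorphisms `η` with `η(L) ≤ p`, `η(p) = 0`, such that `1 + η` permutes
the points.  If `|T p| > q` and there is no 'radical' (field `rad`), then 'adjacent or equal' is an equivalence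
relation on `PP` (`Dat.clique`), for each class the union of the points is a subgroup `U p` (`Dat.U`), and `L` is
the direct sum of these (`Dat.iSup_U`, `Dat.U_inf`); `8 ≤ |U p|` (`Dat.eight_le`).

Pure linear algebra, no transvection theorem.
-/

set_option autoImplicit false

namespace Cfsg.Agent.Omega.OmThm.TT

variable {L : Type*} [AddCommGroup L]

/-- `p` and `x` are adjacent: some `η ∈ T p` is not zero on `x`. -/
def Adj (T : AddSubgroup L → AddSubgroup (L →+ L)) (p x : AddSubgroup L) : Prop := ∃ η ∈ T p, ∃ v ∈ x, η v ≠ 0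

/-- some `η ∈ T p` kills `x` and does not kill `w` -/
def Dis (T : AddSubgroup L → AddSubgroup (L →+ L)) (p x w : AddSubgroup L) : Prop :=
  ∃ η ∈ T p, (∀ v ∈ x, η v = 0) ∧ ∃ v ∈ w, η v ≠ 0

/-- The data of LEMMA TT. -/
structure Dat (PP : Set (AddSubgroup L)) (T : AddSubgroup L → AddSubgroup (L →+ L)) (q : ℕ) : Prop where
  two : ∀ v : L, v + v = 0
  card : ∀ p ∈ PP, Nat.card p = q
  ne : ∀ p ∈ PP, ∃ v ∈ p, v ≠ 0
  ti : ∀ p ∈ PP, ∀ x ∈ PP, ∀ v ∈ p, v ∈ x → v ≠ 0 → p = x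
  im : ∀ p ∈ PP, ∀ η ∈ T p, ∀ v, η v ∈ p
  ker : ∀ p ∈ PP, ∀ η ∈ T p, ∀ v ∈ p, η v = 0
  move : ∀ p ∈ PP, ∀ η ∈ T p, ∀ x ∈ PP, ∃ y ∈ PP, (∀ u ∈ x, u + η u ∈ y) ∧ (∀ v ∈ y, v + η v ∈ x) ∧
    (∀ τ ∈ T x, ∃ τ' ∈ T y, ∀ v, τ' v = τ (v + η v) + η (τ (v + η v))) ∧
    ∀ τ ∈ T y, ∃ τ' ∈ T x, ∀ v, τ' v = τ (v + η v) + η (τ (v + η v))
  cl : ∀ p ∈ PP, ∀ x ∈ PP, ∀ φ ∈ T p, ∀ ψ ∈ T x, (∀ v ∈ p, ψ v = 0) → φ.comp ψ ∈ T p
  reg : ∀ x ∈ PP, ∀ ψ ∈ T x, ∀ b, ψ b ≠ 0 → ∀ a ∈ x, ∃ ψ' ∈ T x, ψ' b = a ∧ ∀ v, ψ v = 0 → ψ' v = 0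
  cardT : ∀ p ∈ PP, ∀ x ∈ PP, Nat.card (T p) = Nat.card (T x)
  big : ∀ p ∈ PP, q < Nat.card (T p)
  span : (⨆ p ∈ PP, p) = (⊤ : AddSubgroup L)
  rad : ∀ p ∈ PP, ∀ x ∈ PP, ∀ η ∈ T p, ∀ η' ∈ T x, (∀ v, ∀ y ∈ PP, ∀ τ ∈ T y, τ (η v + η' v) = 0) →
    ∀ v, η v + η' v = 0

namespace Dat

variable {PP : Set (AddSubgroup L)} {T : AddSubgroup L → AddSubgroup (L →+ L)} {q : ℕ} (D : Dat PP T q)
include D

theorem neg_eq (v : L) : -v = v := neg_eq_of_add_eq_zero_left (D.two v)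

theorem eq_of_add {u v : L} (h : u + v = 0) : u = v := by
  rw [← neg_eq_iff_add_eq_zero, D.neg_eq] at h; exact h

theorem add_eq_zero {u v : L} : u + v = 0 ↔ u = v := ⟨D.eq_of_add, fun h => by rw [h, D.two]⟩

/-- (1) -/
theorem inj {p x : AddSubgroup L} (hp : p ∈ PP) (hx : x ∈ PP) {η : L →+ L} (hη : η ∈ T p) {b : L} (hb : b ∈ x)
    (hb0 : b ≠ 0) (h : η b = 0) : ∀ v ∈ x, η v = 0 := by
  intro v hv
  by_cases hpx : p = x
  · subst hpx
    exact D.ker p hp η hη v hv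
  · obtain ⟨y, hy, h1, -⟩ := D.move p hp η hη x hx
    have hby : b ∈ y := by simpa [h] using h1 b hb
    have hxy := D.ti x hx y hy b hb hby hb0
    subst hxy
    have h2 : η v ∈ x := by simpa using x.sub_mem (h1 v hv) hv
    by_contra h0
    exact hpx (D.ti p hp x hx _ (D.im p hp η hη v) h2 h0)

/-- if some `η ∈ T p` does not kill `x`, it is injective on `x` -/
theorem inj' {p x : AddSubgroup L} (hp : p ∈ PP) (hx : x ∈ PP) {η : L →+ L} (hη : η ∈ T p) {b : L} (hb : b ∈ x)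
    (h : η b ≠ 0) {v : L} (hv : v ∈ x) (hv0 : v ≠ 0) : η v ≠ 0 :=
  fun h0 => h (D.inj hp hx hη hv hv0 h0 b hb)

theorem adj_ne {p x : AddSubgroup L} (hp : p ∈ PP) (h : Adj T p x) : p ≠ x := by
  rintro rfl
  obtain ⟨η, hη, v, hv, h0⟩ := h
  exact h0 (D.ker p hp η hη v hv)

omit D in
theorem adj_of_dis {p x w : AddSubgroup L} (h : Dis T p x w) : Adj T p w := by
  obtain ⟨η, hη, -, v, hv, h0⟩ := h
  exact ⟨η, hη, v, hv, h0⟩

variable [Finite L]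

/-- (2) adjacency is symmetric -/
theorem symm {p x : AddSubgroup L} (hp : p ∈ PP) (hx : x ∈ PP) (h : Adj T p x) : Adj T x p := by
  by_contra hcon
  have hk : ∀ ψ ∈ T x, ∀ v ∈ p, ψ v = 0 := by
    intro ψ hψ v hv
    by_contra h0
    exact hcon ⟨ψ, hψ, v, hv, h0⟩
  obtain ⟨φ, hφ, b, hb, h0⟩ := h
  let f : T x → T p := fun ψ => ⟨φ.comp ψ.1, D.cl p hp x hx φ hφ ψ.1 ψ.2 (hk ψ.1 ψ.2)⟩
  have hinj : Function.Injective f := by
    intro ψ₁ ψ₂ he
    have he' : φ.comp ψ₁.1 = φ.comp ψ₂.1 := congrArg Subtype.val he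
    apply Subtype.ext
    ext v
    have h1 : φ (ψ₁.1 v) = φ (ψ₂.1 v) := DFunLike.congr_fun he' v
    by_contra hne
    refine D.inj' hp hx hφ hb h0 (x.sub_mem (D.im x hx _ ψ₁.2 v) (D.im x hx _ ψ₂.2 v)) (sub_ne_zero.2 hne) ?_
    rw [map_sub, h1, sub_self]
  have : Finite (L →+ L) := Finite.of_injective (fun f : L →+ L => (f : L → L)) DFunLike.coe_injective
  have hbij : Function.Bijective f := hinj.bijective_of_nat_card_le (le_of_eq (D.cardT p hp x hx))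
  obtain ⟨ψ, hψ⟩ := hbij.2 ⟨φ, hφ⟩
  have h1 : φ.comp ψ.1 = φ := congrArg Subtype.val hψ
  apply h0
  rw [← h1]
  show φ (ψ.1 b) = 0
  rw [D.ker x hx _ ψ.2 b hb, map_zero]

/-- (3) -/
theorem tri {p x y : AddSubgroup L} (hp : p ∈ PP) (hy : y ∈ PP) (h : Adj T p y) (h2 : Dis T p y x) :
    Dis T y p x := by
  obtain ⟨ψ, hψ, c, hc, hc0⟩ := D.symm hp hy h
  obtain ⟨η, hη, hk, b, hb, hb0⟩ := h2
  refine ⟨ψ.comp η, D.cl y hy p hp ψ hψ η hη hk, fun v hv => ?_, b, hb, ?_⟩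
  · show ψ (η v) = 0
    rw [D.ker p hp η hη v hv, map_zero]
  · exact D.inj' hy hp hψ hc hc0 (D.im p hp η hη b) hb0

omit [Finite L] in
/-- the condition `W(p;x) ≰ W(p;w)` is symmetric in `x` and `w` for neighbours `x`, `w` of `p` -/
theorem dis_symm {p x w : AddSubgroup L} (hp : p ∈ PP) (hx : Adj T p x) (hwP : w ∈ PP) (h : Dis T p x w) :
    Dis T p w x := by
  obtain ⟨φ, hφ, b, hb, hb0⟩ := hx
  obtain ⟨η, hη, hk, c, hc, hc0⟩ := h
  have hcne : c ≠ 0 := by rintro rfl; exact hc0 (map_zero _)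
  obtain ⟨η', hη', h1, h2⟩ := D.reg p hp η hη c hc0 (φ c) (D.im p hp φ hφ c)
  refine ⟨φ - η', (T p).sub_mem hφ hη', D.inj hp hwP ((T p).sub_mem hφ hη') hc hcne ?_, b, hb, ?_⟩
  · rw [AddMonoidHom.sub_apply, h1, sub_self]
  · rw [AddMonoidHom.sub_apply, h2 b (hk b hb), sub_zero]
    exact hb0

omit [Finite L] in
/-- an element of `T p` which kills all points is zero -/
theorem exists_ne {η : L →+ L} (h : η ≠ 0) : ∃ x ∈ PP, ∃ v ∈ x, η v ≠ 0 := by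
  by_contra hcon
  push Not at hcon
  apply h
  have h1 : (⊤ : AddSubgroup L) ≤ η.ker := by
    rw [← D.span]
    exact iSup₂_le fun x hx v hv => hcon x hx v hv
  ext v
  exact h1 (AddSubgroup.mem_top v)

/-- (4) -/
theorem exists_dis {p x : AddSubgroup L} (hp : p ∈ PP) (hx : x ∈ PP) : ∃ y ∈ PP, Dis T p x y := by
  obtain ⟨b, hb, hb0⟩ := D.ne x hx
  let f : T p → p := fun η => ⟨η.1 b, D.im p hp η.1 η.2 b⟩
  have hf : ¬ Function.Injective f := by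
    intro hinj
    have h1 := Nat.card_le_card_of_injective f hinj
    have h2 := D.big p hp
    rw [D.card p hp] at h1
    omega
  rw [Function.Injective] at hf
  push Not at hf
  obtain ⟨η₁, η₂, he, hne⟩ := hf
  have he' : η₁.1 b = η₂.1 b := congrArg Subtype.val he
  have hd : η₁.1 - η₂.1 ≠ 0 := fun h0 => hne (Subtype.ext (sub_eq_zero.1 h0))
  obtain ⟨y, hy, v, hv, hv0⟩ := D.exists_ne hd
  refine ⟨y, hy, η₁.1 - η₂.1, (T p).sub_mem η₁.2 η₂.2,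
    D.inj hp hx ((T p).sub_mem η₁.2 η₂.2) hb hb0 ?_, v, hv, hv0⟩
  rw [AddMonoidHom.sub_apply, he', sub_self]

/-- (5) -/
theorem not_dis {p p' p'' : AddSubgroup L} (hp : p ∈ PP) (hp' : p' ∈ PP) (h1 : Adj T p p') (h : ¬ Adj T p p'') :
    ¬ Dis T p' p p'' :=
  fun h2 => h (adj_of_dis (D.tri hp' hp (D.symm hp hp' h1) h2))

/-- (6), the first half: a second common neighbour -/
theorem exists_second {p p' p'' : AddSubgroup L} (hp : p ∈ PP) (hp' : p' ∈ PP) (hp'' : p'' ∈ PP) (h1 : Adj T p p')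
    (h2 : Adj T p'' p') (h : ¬ Adj T p p'') : ∃ y ∈ PP, Dis T p p' y ∧ Adj T p'' y := by
  obtain ⟨y, hy, ψ, hψ, hk, hv⟩ := D.exists_dis hp' hp
  have hk' : ∀ v ∈ p'', ψ v = 0 := by
    intro v hv'
    by_contra h0
    exact D.not_dis hp hp' h1 h ⟨ψ, hψ, hk, v, hv', h0⟩
  exact ⟨y, hy, D.tri hp' hp (D.symm hp hp' h1) ⟨ψ, hψ, hk, hv⟩,
    adj_of_dis (D.tri hp' hp'' (D.symm hp'' hp' h2) ⟨ψ, hψ, hk', hv⟩)⟩

omit [Finite L] in
/-- one of two different hyperplanes is different from a third one -/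
theorem dis_or {p w y x : AddSubgroup L} (hp : p ∈ PP) (hy : y ∈ PP) (h : Dis T p w y) (hx : Adj T p x) :
    Dis T p w x ∨ Dis T p y x := by
  by_contra hcon
  push Not at hcon
  obtain ⟨hc1, hc2⟩ := hcon
  obtain ⟨φ, hφ, b, hb, hb0⟩ := hx
  obtain ⟨η, hη, hk, c, hc, hc0⟩ := h
  have hcne : c ≠ 0 := by rintro rfl; exact hc0 (map_zero _)
  obtain ⟨η', hη', h1, h2⟩ := D.reg p hp η hη c hc0 (φ c) (D.im p hp φ hφ c)
  have h3 : η' b = 0 := by
    by_contra h0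
    exact hc1 ⟨η', hη', fun v hv => h2 v (hk v hv), b, hb, h0⟩
  have h4 : (φ - η') b = 0 := by
    by_contra h0
    refine hc2 ⟨φ - η', (T p).sub_mem hφ hη', D.inj hp hy ((T p).sub_mem hφ hη') hc hcne ?_, b, hb, h0⟩
    rw [AddMonoidHom.sub_apply, h1, sub_self]
  rw [AddMonoidHom.sub_apply, h3, sub_zero] at h4
  exact hb0 h4

/-- (6) -/
theorem both {p p' p'' x : AddSubgroup L} (hp : p ∈ PP) (hp' : p' ∈ PP) (hp'' : p'' ∈ PP)
    (h1 : Adj T p p') (h2 : Adj T p'' p') (h : ¬ Adj T p p'') (hpx : Adj T p x) : Adj T p'' x := by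
  by_contra hcon
  have key : ∀ w ∈ PP, Adj T p w → Adj T p'' w → ¬ Dis T p w x := by
    intro w hw hpw hpw'' hd
    obtain ⟨ψ, hψ, hk, c, hc, hc0⟩ := D.tri hp hw hpw hd
    have hk' : ∀ v ∈ p'', ψ v = 0 := by
      intro v hv'
      by_contra h0
      exact D.not_dis hp hw hpw h ⟨ψ, hψ, hk, v, hv', h0⟩
    refine D.not_dis hp'' hw hpw'' hcon ⟨ψ, hψ, hk', c, hc, hc0⟩
  obtain ⟨y, hy, hd, hpy⟩ := D.exists_second hp hp' hp'' h1 h2 h
  rcases D.dis_or hp hy hd hpx with h3 | h3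
  · exact key p' hp' h1 h2 h3
  · exact key y hy (adj_of_dis hd) hpy h3

/-- `(a, a'')` is killed by `T x`. -/
def _root_.Cfsg.Agent.Omega.OmThm.TT.Rel (T : AddSubgroup L → AddSubgroup (L →+ L)) (x : AddSubgroup L) (a a' : L) : Prop :=
  ∀ ψ ∈ T x, ψ (a + a') = 0

/-- (8) existence of `θ_x(a)` -/
theorem exists_rel {p p'' x : AddSubgroup L} (hp : p ∈ PP) (hp'' : p'' ∈ PP) (hx : x ∈ PP) (h1 : Adj T p x)
    (h2 : Adj T p'' x) (h : ¬ Adj T p p'') {a : L} (ha : a ∈ p) : ∃ a'' ∈ p'', Rel T x a a'' := by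
  have h' : ¬ Adj T p'' p := fun h0 => h (D.symm hp'' hp h0)
  by_cases ha0 : a = 0
  · exact ⟨0, p''.zero_mem, fun ψ _ => by rw [ha0, add_zero, map_zero]⟩
  obtain ⟨ψ₀, hψ₀, c, hc, hc0⟩ := D.symm hp hx h1
  have hψa : ψ₀ a ≠ 0 := D.inj' hx hp hψ₀ hc hc0 ha ha0
  -- `ψ₀` is not zero on `p''`
  have hk'' : ∃ d ∈ p'', ψ₀ d ≠ 0 := by
    by_contra h0
    push Not at h0
    exact D.not_dis hp'' hx h2 h' ⟨ψ₀, hψ₀, h0, a, ha, hψa⟩
  obtain ⟨d, hd, hd0⟩ := hk''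
  let f : p'' → x := fun v => ⟨ψ₀ v, D.im x hx ψ₀ hψ₀ v⟩
  have hinj : Function.Injective f := by
    intro u v he
    have he' : ψ₀ u = ψ₀ v := congrArg Subtype.val he
    apply Subtype.ext
    by_contra hne
    refine D.inj' hx hp'' hψ₀ hd hd0 (p''.sub_mem u.2 v.2) (sub_ne_zero.2 hne) ?_
    rw [map_sub, he', sub_self]
  have hbij : Function.Bijective f := hinj.bijective_of_nat_card_le (by rw [D.card x hx, D.card p'' hp''])
  obtain ⟨a'', ha''⟩ := hbij.2 ⟨ψ₀ a, D.im x hx ψ₀ hψ₀ a⟩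
  have ha2 : ψ₀ a'' = ψ₀ a := congrArg Subtype.val ha''
  have hz : ψ₀ (a + a'') = 0 := by rw [map_add, ha2, D.two]
  refine ⟨a'', a''.2, fun ψ hψ => ?_⟩
  -- elements killing `a` kill `p` and `p''`
  have hkill : ∀ ψ ∈ T x, ψ a = 0 → ψ (a + a'') = 0 := by
    intro ψ hψ h0
    have h3 := D.inj hx hp hψ ha ha0 h0
    have h4 : ψ a'' = 0 := by
      by_contra h5
      exact D.not_dis hp hx h1 h ⟨ψ, hψ, h3, a'', a''.2, h5⟩
    rw [map_add, h0, h4, add_zero]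
  obtain ⟨ψ', hψ', h5, h6⟩ := D.reg x hx ψ₀ hψ₀ a hψa (ψ a) (D.im x hx ψ hψ a)
  have h7 := hkill (ψ - ψ') ((T x).sub_mem hψ hψ') (by rw [AddMonoidHom.sub_apply, h5, sub_self])
  rw [AddMonoidHom.sub_apply, h6 _ hz, sub_zero] at h7
  exact h7

/-- (9a) -/
theorem rel_of_dis {p p'' x x' : AddSubgroup L} (hp : p ∈ PP) (hx : x ∈ PP) (hx' : x' ∈ PP)
    (h1 : Adj T p x) (h1' : Adj T p x') (h : ¬ Adj T p p'')
    (hd : Dis T x p x') {a a'' : L} (ha : a ∈ p) (ha'' : a'' ∈ p'') (hr : Rel T x a a'') : Rel T x' a a'' := by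
  have hxx' : Adj T x x' := adj_of_dis hd
  have hd' : Dis T x' p x := by
    have e1 : Dis T x x' p := D.dis_symm hx (D.symm hp hx h1) hx' hd
    have e2 : Dis T x' x p := D.tri hx hx' hxx' e1
    exact D.dis_symm hx' (D.symm hx hx' hxx') hp e2
  -- an element killing `p` kills `a + a''`
  have hkill : ∀ z ∈ PP, Adj T p z → ∀ ψ ∈ T z, (∀ v ∈ p, ψ v = 0) → ψ (a + a'') = 0 := by
    intro z hz hpz ψ hψ hk
    have h4 : ψ a'' = 0 := by
      by_contra h5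
      exact D.not_dis hp hz hpz h ⟨ψ, hψ, hk, a'', ha'', h5⟩
    rw [map_add, hk a ha, h4, add_zero]
  obtain ⟨b, hb, hb0⟩ := D.ne x hx
  obtain ⟨b', hb', hb0'⟩ := D.ne x' hx'
  have hne : x ≠ x' := D.adj_ne hx hxx'
  -- `y ∋ b' + b`, the image of `x'` under `1 + ψ'`
  obtain ⟨ψ, hψ, hk, c, hc, hc0⟩ := hd
  obtain ⟨ψ', hψ', h3, h4⟩ := D.reg x hx ψ hψ b' (D.inj' hx hx' hψ hc hc0 hb' hb0') b hb
  obtain ⟨y, hy, e1, e2, e3, e4⟩ := D.move x hx ψ' hψ' x' hx'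
  have hby : b' + b ∈ y := by simpa [h3] using e1 b' hb'
  -- `y₁ ∋ b + b'`, the image of `x` under `1 + τ'`
  obtain ⟨τ, hτ, hkt, c', hc', hc0'⟩ := hd'
  obtain ⟨τ', hτ', h5, h6⟩ := D.reg x' hx' τ hτ b (D.inj' hx' hx hτ hc' hc0' hb hb0) b' hb'
  obtain ⟨y₁, hy₁, f1, f2, f3, f4⟩ := D.move x' hx' τ' hτ' x hx
  have hby₁ : b + b' ∈ y₁ := by simpa [h5] using f1 b hb
  have hyy : y = y₁ := D.ti y hy y₁ hy₁ _ hby (by rwa [add_comm]) fun h0 => by
    have := D.eq_of_add h0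
    exact hne (D.ti x hx x' hx' b hb (this ▸ hb') hb0)
  subst hyy
  -- `Rel x → Rel y`
  have hry : Rel T y a a'' := by
    intro σ hσ
    obtain ⟨σ', hσ', h7⟩ := f4 σ hσ
    have h8 : σ' (a + a'') = 0 := hr σ' hσ'
    have h9 : τ' (a + a'') = 0 := hkill x' hx' h1' τ' hτ' fun v hv => h6 v (hkt v hv)
    rw [h7, h9, add_zero] at h8
    have h10 : σ (a + a'') = τ' (σ (a + a'')) := D.eq_of_add h8
    have h11 : τ' (σ (a + a'')) = τ' (τ' (σ (a + a''))) := congrArg τ' h10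
    rw [D.ker x' hx' τ' hτ' _ (D.im x' hx' τ' hτ' _)] at h11
    rw [h10, h11]
  -- `Rel y → Rel x'`
  intro σ hσ
  obtain ⟨σ', hσ', h7⟩ := e3 σ hσ
  have h8 : σ' (a + a'') = 0 := hry σ' hσ'
  have h9 : ψ' (a + a'') = 0 := hkill x hx h1 ψ' hψ' fun v hv => h4 v (hk v hv)
  rw [h7, h9, add_zero] at h8
  have h10 : σ (a + a'') = ψ' (σ (a + a'')) := D.eq_of_add h8
  have h11 : ψ' (σ (a + a'')) = ψ' (ψ' (σ (a + a''))) := congrArg ψ' h10
  rw [D.ker x hx ψ' hψ' _ (D.im x hx ψ' hψ' _)] at h11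
  rw [h10, h11]

/-- (9) -/
theorem rel_of_rel {p p'' x x' : AddSubgroup L} (hp : p ∈ PP) (hx : x ∈ PP) (hx' : x' ∈ PP)
    (h1 : Adj T p x) (h1' : Adj T p x') (h : ¬ Adj T p p'')
    {a a'' : L} (ha : a ∈ p) (ha'' : a'' ∈ p'') (hr : Rel T x a a'') : Rel T x' a a'' := by
  -- the case of different hyperplanes of `T p`
  have key : ∀ z ∈ PP, ∀ z' ∈ PP, Adj T p z → Adj T p z' → Dis T p z z' →
      Rel T z a a'' → Rel T z' a a'' := by
    intro z hz z' hz' k1 k1' hd hr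
    -- `Dis p z z' → Dis z p z'`
    exact D.rel_of_dis hp hz hz' k1 k1' h (D.tri hp hz k1 hd) ha ha'' hr
  by_cases hd : Dis T p x x'
  · exact key x hx x' hx' h1 h1' hd hr
  · obtain ⟨y, hy, hdy⟩ := D.exists_dis hp hx
    have hpy := adj_of_dis hdy
    have h3 := key x hx y hy h1 hpy hdy hr
    have hdy' : Dis T p x' y := by
      obtain ⟨η, hη, hk, hv⟩ := hdy
      refine ⟨η, hη, fun v hv' => ?_, hv⟩
      by_contra h0
      exact hd ⟨η, hη, hk, v, hv', h0⟩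
    exact key y hy x' hx' hpy h1' (D.dis_symm hp h1' hy hdy') h3

/-- (10) killed by all `T x` -/
def _root_.Cfsg.Agent.Omega.OmThm.TT.RelA (PP : Set (AddSubgroup L)) (T : AddSubgroup L → AddSubgroup (L →+ L))
    (a a' : L) : Prop := ∀ x ∈ PP, ∀ ψ ∈ T x, ψ (a + a') = 0

theorem relA_of_rel {p p'' x : AddSubgroup L} (hp : p ∈ PP) (hp'' : p'' ∈ PP) (hx : x ∈ PP)
    (h1 : Adj T p x) (h2 : Adj T p'' x) (h : ¬ Adj T p p'')
    {a a'' : L} (ha : a ∈ p) (ha'' : a'' ∈ p'') (hr : Rel T x a a'') : RelA PP T a a'' := by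
  intro z hz
  by_cases hpz : Adj T p z
  · exact D.rel_of_rel hp hx hz h1 hpz h ha ha'' hr
  · have hpz'' : ¬ Adj T p'' z := fun h3 =>
      hpz (D.both hp'' hx hp h2 h1 (fun h0 => h (D.symm hp'' hp h0)) h3)
    intro ψ hψ
    have e1 : ψ a = 0 := by
      by_contra h0
      exact hpz (D.symm hz hp ⟨ψ, hψ, a, ha, h0⟩)
    have e2 : ψ a'' = 0 := by
      by_contra h0
      exact hpz'' (D.symm hz hp'' ⟨ψ, hψ, a'', ha'', h0⟩)
    rw [map_add, e1, e2, add_zero]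

/-- `W(p;x) = φ W(x;p)` -/
theorem exists_comp {p x : AddSubgroup L} (hp : p ∈ PP) (hx : x ∈ PP) {φ : L →+ L} (hφ : φ ∈ T p)
    (hφx : ∃ b ∈ x, φ b ≠ 0) {η : L →+ L} (hη : η ∈ T p) (hk : ∀ v ∈ x, η v = 0) :
    ∃ ψ ∈ T x, (∀ v ∈ p, ψ v = 0) ∧ φ.comp ψ = η := by
  obtain ⟨b, hb, hb0⟩ := hφx
  obtain ⟨ψ₀, hψ₀, c, hc, hc0⟩ := D.symm hp hx ⟨φ, hφ, b, hb, hb0⟩
  let A : Type _ := {ψ : L →+ L // ψ ∈ T x ∧ ∀ v ∈ p, ψ v = 0}
  let B : Type _ := {η : L →+ L // η ∈ T p ∧ ∀ v ∈ x, η v = 0}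
  have : Finite (L →+ L) := Finite.of_injective (fun f : L →+ L => (f : L → L)) DFunLike.coe_injective
  have gen : ∀ p ∈ PP, ∀ x ∈ PP, ∀ φ ∈ T p, ∀ b ∈ x, φ b ≠ 0 → ∀ ψ₁ ψ₂ : L →+ L, ψ₁ ∈ T x → ψ₂ ∈ T x →
      φ.comp ψ₁ = φ.comp ψ₂ → ψ₁ = ψ₂ := by
    intro p hp x hx φ hφ b hb hb0 ψ₁ ψ₂ h1 h2 he
    ext v
    have h1' : φ (ψ₁ v) = φ (ψ₂ v) := DFunLike.congr_fun he v
    by_contra hne
    refine D.inj' hp hx hφ hb hb0 (x.sub_mem (D.im x hx _ h1 v) (D.im x hx _ h2 v)) (sub_ne_zero.2 hne) ?_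
    rw [map_sub, h1', sub_self]
  have gen2 : ∀ p ∈ PP, ∀ x ∈ PP, ∀ φ ∈ T p, ∀ ψ ∈ T x, (∀ v ∈ p, ψ v = 0) →
      φ.comp ψ ∈ T p ∧ ∀ v ∈ x, (φ.comp ψ) v = 0 := by
    intro p hp x hx φ hφ ψ hψ hk
    refine ⟨D.cl p hp x hx φ hφ ψ hψ hk, fun v hv => ?_⟩
    show φ (ψ v) = 0
    rw [D.ker x hx ψ hψ v hv, map_zero]
  let f : A → B := fun ψ => ⟨φ.comp ψ.1, gen2 p hp x hx φ hφ ψ.1 ψ.2.1 ψ.2.2⟩
  let g : B → A := fun η => ⟨ψ₀.comp η.1, gen2 x hx p hp ψ₀ hψ₀ η.1 η.2.1 η.2.2⟩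
  have hf : Function.Injective f := fun ψ₁ ψ₂ he =>
    Subtype.ext (gen p hp x hx φ hφ b hb hb0 _ _ ψ₁.2.1 ψ₂.2.1 (congrArg Subtype.val he))
  have hg : Function.Injective g := fun ψ₁ ψ₂ he =>
    Subtype.ext (gen x hx p hp ψ₀ hψ₀ c hc hc0 _ _ ψ₁.2.1 ψ₂.2.1 (congrArg Subtype.val he))
  have hbij : Function.Bijective f := hf.bijective_of_nat_card_le (Nat.card_le_card_of_injective g hg)
  obtain ⟨ψ, hψ⟩ := hbij.2 ⟨η, hη, hk⟩
  exact ⟨ψ.1, ψ.2.1, ψ.2.2, congrArg Subtype.val hψ⟩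

/-- (10a) -/
theorem exists_partner_aux {p p'' x : AddSubgroup L} (hp : p ∈ PP) (hp'' : p'' ∈ PP) (hx : x ∈ PP)
    (h1 : Adj T p x) (h2 : Adj T p'' x) (h : ¬ Adj T p p'') {η : L →+ L} (hη : η ∈ T p)
    (hk : ∀ v ∈ x, η v = 0) : ∃ η'' ∈ T p'', ∀ v, RelA PP T (η v) (η'' v) := by
  have h' : ¬ Adj T p'' p := fun h0 => h (D.symm hp'' hp h0)
  obtain ⟨φ, hφ, b, hb, hb0⟩ := h1
  obtain ⟨ψ, hψ, hkp, rfl⟩ := D.exists_comp hp hx hφ ⟨b, hb, hb0⟩ hη hk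
  have hbne : b ≠ 0 := by rintro rfl; exact hb0 (map_zero _)
  obtain ⟨a'', ha'', hr⟩ := D.exists_rel hp hp'' hx ⟨φ, hφ, b, hb, hb0⟩ h2 h (D.im p hp φ hφ b)
  obtain ⟨σ, hσ, d, hd, hd0⟩ := h2
  obtain ⟨φ'', hφ'', h3, -⟩ := D.reg p'' hp'' σ hσ b (D.inj' hp'' hx hσ hd hd0 hb hbne) a'' ha''
  -- `φ u + φ'' u` is killed for all `u ∈ x`
  have key : ∀ u ∈ x, RelA PP T (φ u) (φ'' u) := by
    obtain ⟨y, hy, e1, -⟩ := D.move p hp φ hφ x hx
    obtain ⟨z, hz, f1, -⟩ := D.move p'' hp'' φ'' hφ'' y hy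
    have hkp'' : ∀ v ∈ p, φ'' v = 0 := by
      intro v hv
      by_contra h0
      exact h' ⟨φ'', hφ'', v, hv, h0⟩
    have hz' : ∀ u ∈ x, u + φ u + φ'' u ∈ z := by
      intro u hu
      have := f1 _ (e1 u hu)
      rwa [map_add, hkp'' _ (D.im p hp φ hφ u), add_zero] at this
    have hbz := hz' b hb
    rw [h3] at hbz
    have hb1 : b + φ b + a'' ≠ 0 := by
      intro h0
      have h4 := congrArg φ h0
      rw [map_add, map_add, D.ker p hp φ hφ _ (D.im p hp φ hφ b), map_zero] at h4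
      have h5 : φ a'' = 0 := by
        by_contra h6
        exact h ⟨φ, hφ, a'', ha'', h6⟩
      rw [h5, add_zero, add_zero] at h4
      exact hb0 h4
    intro u hu
    refine D.relA_of_rel hp hp'' hx ⟨φ, hφ, b, hb, hb0⟩ ⟨σ, hσ, d, hd, hd0⟩ h (D.im p hp φ hφ u)
      (D.im p'' hp'' φ'' hφ'' u) ?_
    intro τ hτ
    have h6 : τ (b + φ b + a'') = 0 := by
      rw [add_assoc, map_add, D.ker x hx τ hτ b hb, zero_add]
      exact hr τ hτ
    have h7 := D.inj hx hz hτ hbz hb1 h6 _ (hz' u hu)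
    rwa [add_assoc, map_add, D.ker x hx τ hτ u hu, zero_add] at h7
  have hkψ'' : ∀ v ∈ p'', ψ v = 0 := by
    intro v hv
    by_contra h0
    exact D.not_dis hp hx ⟨φ, hφ, b, hb, hb0⟩ h ⟨ψ, hψ, hkp, v, hv, h0⟩
  exact ⟨φ''.comp ψ, D.cl p'' hp'' x hx φ'' hφ'' ψ hψ hkψ'', fun v => key (ψ v) (D.im x hx ψ hψ v)⟩

/-- (10b) -/
theorem exists_partner {p p'' x : AddSubgroup L} (hp : p ∈ PP) (hp'' : p'' ∈ PP) (hx : x ∈ PP)
    (h1 : Adj T p x) (h2 : Adj T p'' x) (h : ¬ Adj T p p'') {η : L →+ L} (hη : η ∈ T p) :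
    ∃ η'' ∈ T p'', ∀ v, RelA PP T (η v) (η'' v) := by
  obtain ⟨y, hy, hd⟩ := D.exists_dis hp hx
  have hpy := adj_of_dis hd
  have hpy'' : Adj T p'' y := D.both hp hx hp'' h1 h2 h hpy
  obtain ⟨η₀, hη₀, hk, c, hc, hc0⟩ := hd
  have hcne : c ≠ 0 := by rintro rfl; exact hc0 (map_zero _)
  obtain ⟨η₁, hη₁, h3, h4⟩ := D.reg p hp η₀ hη₀ c hc0 (η c) (D.im p hp η hη c)
  obtain ⟨ζ₁, hζ₁, g1⟩ := D.exists_partner_aux hp hp'' hx h1 h2 h hη₁ fun v hv => h4 v (hk v hv)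
  obtain ⟨ζ₂, hζ₂, g2⟩ := D.exists_partner_aux hp hp'' hy hpy hpy'' h ((T p).sub_mem hη hη₁)
    (D.inj hp hy ((T p).sub_mem hη hη₁) hc hcne (by rw [AddMonoidHom.sub_apply, h3, sub_self]))
  refine ⟨ζ₁ + ζ₂, (T p'').add_mem hζ₁ hζ₂, fun v z hz ψ hψ => ?_⟩
  have e : η v + (ζ₁ + ζ₂) v = (η₁ v + ζ₁ v) + ((η - η₁) v + ζ₂ v) := by
    rw [AddMonoidHom.sub_apply, AddMonoidHom.add_apply]
    abel
  rw [e, map_add, g1 v z hz ψ hψ, g2 v z hz ψ hψ, add_zero]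

/-- **(11) two different points with a common neighbour are adjacent.** -/
theorem clique {p p' p'' : AddSubgroup L} (hp : p ∈ PP) (hp' : p' ∈ PP) (hp'' : p'' ∈ PP) (h1 : Adj T p p')
    (h2 : Adj T p' p'') (hne : p ≠ p'') : Adj T p p'' := by
  by_contra h
  have h2' := D.symm hp' hp'' h2
  obtain ⟨φ, hφ, b, hb, hb0⟩ := h1
  obtain ⟨φ'', hφ'', hr⟩ := D.exists_partner hp hp'' hp' ⟨φ, hφ, b, hb, hb0⟩ h2' h hφ
  have h3 := D.rad p hp p'' hp'' φ hφ φ'' hφ'' hr b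
  have h4 : φ b = φ'' b := D.eq_of_add h3
  exact hne (D.ti p hp p'' hp'' (φ b) (D.im p hp φ hφ b) (h4 ▸ D.im p'' hp'' φ'' hφ'' b) hb0)

/-! ### The classes -/

/-- `x` is in the class of `p` -/
def _root_.Cfsg.Agent.Omega.OmThm.TT.Cls (T : AddSubgroup L → AddSubgroup (L →+ L)) (p x : AddSubgroup L) : Prop :=
  x = p ∨ Adj T p x

theorem cls_symm {p x : AddSubgroup L} (hp : p ∈ PP) (hx : x ∈ PP) (h : Cls T p x) : Cls T x p := by
  rcases h with h | h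
  · exact Or.inl h.symm
  · exact Or.inr (D.symm hp hx h)

theorem cls_trans {p x y : AddSubgroup L} (hp : p ∈ PP) (hx : x ∈ PP) (hy : y ∈ PP) (h : Cls T p x)
    (h2 : Cls T x y) : Cls T p y := by
  rcases h with h | h
  · rwa [← h]
  rcases h2 with h2 | h2
  · rw [h2]; exact Or.inr h
  by_cases hpy : y = p
  · exact Or.inl hpy
  · exact Or.inr (D.clique hp hx hy h h2 (Ne.symm hpy))

/-- every point has a neighbour -/
theorem exists_adj {p : AddSubgroup L} (hp : p ∈ PP) : ∃ x ∈ PP, Adj T p x := by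
  obtain ⟨x, hx, h⟩ := D.exists_dis hp hp
  exact ⟨x, hx, adj_of_dis h⟩

omit [Finite L] in
/-- `a ∈ x`, `b ∈ y`, `x ~ y`: `a + b` lies in a point of the class -/
theorem add_mem_point {x y : AddSubgroup L} (hx : x ∈ PP) (hy : y ∈ PP) (h : Adj T x y) {a b : L} (ha : a ∈ x)
    (hb : b ∈ y) (hb0 : b ≠ 0) : ∃ z ∈ PP, a + b ∈ z ∧ Adj T x z := by
  obtain ⟨φ, hφ, c, hc, hc0⟩ := h
  have h1 := D.inj' hx hy hφ hc hc0 hb hb0
  obtain ⟨φ', hφ', h2, -⟩ := D.reg x hx φ hφ b h1 a ha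
  obtain ⟨z, hz, e1, -⟩ := D.move x hx φ' hφ' y hy
  have h3 : a + b ∈ z := by
    have := e1 b hb
    rwa [h2, add_comm] at this
  refine ⟨z, hz, h3, φ, hφ, a + b, h3, ?_⟩
  rw [map_add, D.ker x hx φ hφ a ha, zero_add]
  exact h1

/-- the union of the points of the class of `p` -/
def U {p : AddSubgroup L} (hp : p ∈ PP) : AddSubgroup L where
  carrier := {v | ∃ x ∈ PP, v ∈ x ∧ Cls T p x}
  zero_mem' := ⟨p, hp, p.zero_mem, Or.inl rfl⟩
  neg_mem' := by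
    rintro v ⟨x, hx, hv, hc⟩
    exact ⟨x, hx, x.neg_mem hv, hc⟩
  add_mem' := by
    rintro a b ⟨x, hx, ha, hc⟩ ⟨y, hy, hb, hc'⟩
    by_cases hb0 : b = 0
    · exact ⟨x, hx, by rwa [hb0, add_zero], hc⟩
    rcases D.cls_trans hx hp hy (D.cls_symm hp hx hc) hc' with h | h
    · subst h
      exact ⟨y, hy, y.add_mem ha hb, hc⟩
    · obtain ⟨z, hz, h1, h2⟩ := D.add_mem_point hx hy h ha hb hb0
      exact ⟨z, hz, h1, D.cls_trans hp hx hz hc (Or.inr h2)⟩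

theorem mem_U {p : AddSubgroup L} (hp : p ∈ PP) {v : L} : v ∈ D.U hp ↔ ∃ x ∈ PP, v ∈ x ∧ Cls T p x := Iff.rfl

theorem le_U {p x : AddSubgroup L} (hp : p ∈ PP) (hx : x ∈ PP) (h : Cls T p x) : x ≤ D.U hp :=
  fun _ hv => ⟨x, hx, hv, h⟩

theorem self_le_U {p : AddSubgroup L} (hp : p ∈ PP) : p ≤ D.U hp := D.le_U hp hp (Or.inl rfl)

theorem U_eq {p x : AddSubgroup L} (hp : p ∈ PP) (hx : x ∈ PP) (h : Cls T p x) : D.U hp = D.U hx := by
  ext v
  constructor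
  · rintro ⟨y, hy, hv, hc⟩
    exact ⟨y, hy, hv, D.cls_trans hx hp hy (D.cls_symm hp hx h) hc⟩
  · rintro ⟨y, hy, hv, hc⟩
    exact ⟨y, hy, hv, D.cls_trans hp hx hy h hc⟩

/-- a point whose intersection with `U p` is not zero is in the class of `p` -/
theorem cls_of_mem {p x : AddSubgroup L} (hp : p ∈ PP) (hx : x ∈ PP) {v : L} (hv : v ∈ x) (hv0 : v ≠ 0)
    (h : v ∈ D.U hp) : Cls T p x := by
  obtain ⟨y, hy, hvy, hc⟩ := h
  rwa [D.ti x hx y hy v hv hvy hv0]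

/-- `T x` kills the other classes -/
theorem kill {p x : AddSubgroup L} (hp : p ∈ PP) (hx : x ∈ PP) (h : ¬ Cls T p x) {η : L →+ L} (hη : η ∈ T x) :
    ∀ v ∈ D.U hp, η v = 0 := by
  rintro v ⟨y, hy, hv, hc⟩
  by_contra h0
  exact h (D.cls_trans hp hy hx hc (D.cls_symm hx hy (Or.inr ⟨η, hη, v, hv, h0⟩)))

/-- a vector of `U p` which is killed by all `T x`, `x` in the class of `p`, is zero -/
theorem eq_zero_of_kill {p : AddSubgroup L} (hp : p ∈ PP) {v : L} (hv : v ∈ D.U hp)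
    (h : ∀ x ∈ PP, Cls T p x → ∀ η ∈ T x, η v = 0) : v = 0 := by
  by_contra hv0
  obtain ⟨y, hy, hvy, hc⟩ := hv
  obtain ⟨x, hx, ⟨η, hη, w, hw, hw0⟩⟩ := D.exists_adj hy
  have hxy := D.symm hy hx ⟨η, hη, w, hw, hw0⟩
  obtain ⟨τ, hτ, c, hcy, hc0⟩ := hxy
  exact D.inj' hx hy hτ hcy hc0 hvy hv0 (h x hx (D.cls_trans hp hy hx hc (Or.inr ⟨η, hη, w, hw, hw0⟩)) τ hτ)

/-- **the sum of the `U p` is direct** -/
theorem U_inf {p : AddSubgroup L} (hp : p ∈ PP) :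
    D.U hp ⊓ (⨆ x, ⨆ (hx : x ∈ PP), ⨆ (_ : ¬ Cls T p x), D.U hx) = ⊥ := by
  rw [eq_bot_iff]
  rintro v ⟨hv, hv2⟩
  rw [AddSubgroup.mem_bot]
  refine D.eq_zero_of_kill hp hv fun y hy hc η hη => ?_
  have h1 : (⨆ x, ⨆ (hx : x ∈ PP), ⨆ (_ : ¬ Cls T p x), D.U hx) ≤ η.ker := by
    refine iSup_le fun x => iSup_le fun hx => iSup_le fun hn => ?_
    intro w hw
    exact D.kill hx hy (fun h0 => hn (D.cls_trans hp hy hx hc (D.cls_symm hx hy h0))) hη w hw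
  exact h1 hv2

theorem iSup_U : (⨆ x, ⨆ (hx : x ∈ PP), D.U hx) = ⊤ := by
  rw [eq_top_iff, ← D.span]
  exact iSup₂_le fun p hp => (D.self_le_U hp).trans (le_iSup₂_of_le p hp le_rfl)

/-- **`|U p| ≥ 8`** -/
theorem eight_le {p : AddSubgroup L} (hp : p ∈ PP) : 8 ≤ Nat.card (D.U hp) := by
  obtain ⟨x, hx, hpx⟩ := D.exists_adj hp
  obtain ⟨y, hy, hd⟩ := D.exists_dis hp hx
  have hpy := adj_of_dis hd
  obtain ⟨η, hη, hk, w, hw, hw0⟩ := hd
  obtain ⟨a, ha, ha0⟩ := D.ne p hp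
  obtain ⟨b, hb, hb0⟩ := D.ne x hx
  obtain ⟨τ, hτ, c, hc, hc0⟩ := D.symm hp hx hpx
  have hτa : τ a ≠ 0 := D.inj' hx hp hτ hc hc0 ha ha0
  -- three subgroups
  have double : ∀ A : AddSubgroup L, ∀ f : L →+ L, (∃ v ∈ A, f v ≠ 0) →
      2 * Nat.card (A ⊓ f.ker : AddSubgroup L) ≤ Nat.card A := by
    rintro A f ⟨v, hv, hv0⟩
    let g : (A ⊓ f.ker : AddSubgroup L) × Bool → A := fun z => ⟨z.1.1 + (bif z.2 then v else 0), by
      refine A.add_mem z.1.2.1 ?_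
      cases z.2
      · exact A.zero_mem
      · exact hv⟩
    have hg : Function.Injective g := by
      rintro ⟨z, i⟩ ⟨z', i'⟩ he
      have he' : z.1 + (bif i then v else 0) = z'.1 + (bif i' then v else 0) := congrArg Subtype.val he
      have h1 : f z.1 = 0 := z.2.2
      have h1' : f z'.1 = 0 := z'.2.2
      have h2 := congrArg f he'
      rw [map_add, map_add, h1, h1', zero_add, zero_add] at h2
      have hii : i = i' := by
        cases i <;> cases i' <;> simp at h2 <;> first | rfl | (exact absurd h2 hv0) | exact absurd h2.symm hv0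
      subst hii
      have hzz := add_right_cancel he'
      exact Prod.ext (Subtype.ext hzz) rfl
    have := Nat.card_le_card_of_injective g hg
    rw [Nat.card_prod] at this
    simp only [Nat.card_eq_fintype_card (α := Bool), Fintype.card_bool] at this
    omega
  have h1 := double (D.U hp) η ⟨w, D.le_U hp hy (Or.inr hpy) hw, hw0⟩
  have h2 := double (D.U hp ⊓ η.ker) τ ⟨a, ⟨D.self_le_U hp ha, D.ker p hp η hη a ha⟩, hτa⟩
  have h3 : 2 ≤ Nat.card ((D.U hp ⊓ η.ker) ⊓ τ.ker : AddSubgroup L) := by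
    have hbm : b ∈ (D.U hp ⊓ η.ker) ⊓ τ.ker :=
      ⟨⟨D.le_U hp hx (Or.inr hpx) hb, hk b hb⟩, D.ker x hx τ hτ b hb⟩
    by_contra hlt
    have h4 : Nat.card ((D.U hp ⊓ η.ker) ⊓ τ.ker : AddSubgroup L) = 1 := by
      have : 0 < Nat.card ((D.U hp ⊓ η.ker) ⊓ τ.ker : AddSubgroup L) := Nat.card_pos
      omega
    have h5 := (Nat.card_eq_one_iff_unique.1 h4).1
    exact hb0 (congrArg Subtype.val (Subsingleton.elim (⟨b, hbm⟩ : ((D.U hp ⊓ η.ker) ⊓ τ.ker : AddSubgroup L))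
      ⟨0, zero_mem _⟩))
  omega

end Dat

end Cfsg.Agent.Omega.OmThm.TT

end

-- merged: Cfsg.Agent.Omega.OmThm.SP
section

/-!
# LEMMA SP (bb OMEGA #19952 (1))

The setting of LEMMA TT (`OmThm/TT.lean`) with `|T p| = q ≥ 4`: `L` is a finite elementary abelian 2-group, `PP` a set of
subgroups (points) of order `q` which meet pairwise trivially, `T p` an additive group of order `q` of endomorphisms `η`
with `η(L) ≤ p`, `η(p) = 0`, such that `1 + η` permutes the points. `Adj T p x` : `T p` does not kill `x`.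

* `Dat.kerT` : the nonzero elements of `T p` have the same kernel `perp T p`;
* `Dat.symm` : adjacency is symmetric; `Dat.add_point` : if `x`, `y` are adjacent, every vector of `x + y` is in a point;
* `Dat.exists_point_add` : the same for all points if the graph is connected (`conn`) and no sum of two nonzero vectors
  of different points is killed by all `T w` (`nk`);
* `Dat.mem_point` : **every vector `≠ 0` is in a point**; `Dat.common` : diameter 2;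
* `Dat.perp_inj` : `perp p = perp x` implies `p = x`; `Dat.perp_add` : `L = perp c + z` for adjacent `c`, `z`.

Pure linear algebra.
-/

set_option autoImplicit false

namespace Cfsg.Agent.Omega.OmThm.SP

open TT (Adj)

variable {L : Type*} [AddCommGroup L]

/-- the vectors killed by `T p` -/
def perp (T : AddSubgroup L → AddSubgroup (L →+ L)) (p : AddSubgroup L) : AddSubgroup L where
  carrier := {v | ∀ η ∈ T p, η v = 0}
  zero_mem' := fun η _ => map_zero η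
  add_mem' := fun {a b} ha hb η hη => by rw [map_add, ha η hη, hb η hη, add_zero]
  neg_mem' := fun {a} ha η hη => by rw [map_neg, ha η hη, neg_zero]

theorem mem_perp {T : AddSubgroup L → AddSubgroup (L →+ L)} {p : AddSubgroup L} {v : L} :
    v ∈ perp T p ↔ ∀ η ∈ T p, η v = 0 := Iff.rfl

/-- The data of LEMMA SP. -/
structure Dat (PP : Set (AddSubgroup L)) (T : AddSubgroup L → AddSubgroup (L →+ L)) (q : ℕ) : Prop where
  two : ∀ v : L, v + v = 0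
  hq : 3 ≤ q
  card : ∀ p ∈ PP, Nat.card p = q
  ti : ∀ p ∈ PP, ∀ x ∈ PP, ∀ v ∈ p, v ∈ x → v ≠ 0 → p = x
  im : ∀ p ∈ PP, ∀ η ∈ T p, ∀ v, η v ∈ p
  ker : ∀ p ∈ PP, ∀ η ∈ T p, ∀ v ∈ p, η v = 0
  move : ∀ p ∈ PP, ∀ η ∈ T p, ∀ x ∈ PP, ∃ y ∈ PP, (∀ u ∈ x, u + η u ∈ y) ∧ (∀ v ∈ y, v + η v ∈ x) ∧
    (∀ τ ∈ T x, ∃ τ' ∈ T y, ∀ v, τ' v = τ (v + η v) + η (τ (v + η v))) ∧
    ∀ τ ∈ T y, ∃ τ' ∈ T x, ∀ v, τ' v = τ (v + η v) + η (τ (v + η v))
  cl : ∀ p ∈ PP, ∀ x ∈ PP, ∀ φ ∈ T p, ∀ ψ ∈ T x, (∀ v ∈ p, ψ v = 0) → φ.comp ψ ∈ T p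
  reg : ∀ x ∈ PP, ∀ ψ ∈ T x, ∀ b, ψ b ≠ 0 → ∀ a ∈ x, ∃ ψ' ∈ T x, ψ' b = a ∧ ∀ v, ψ v = 0 → ψ' v = 0
  cardT : ∀ p ∈ PP, Nat.card (T p) = q

namespace Dat

variable {PP : Set (AddSubgroup L)} {T : AddSubgroup L → AddSubgroup (L →+ L)} {q : ℕ} (D : Dat PP T q)
include D

theorem neg_eq (v : L) : -v = v := neg_eq_of_add_eq_zero_left (D.two v)

theorem eq_of_add {u v : L} (h : u + v = 0) : u = v := by
  rw [← neg_eq_iff_add_eq_zero, D.neg_eq] at h; exact h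

theorem add_eq_zero {u v : L} : u + v = 0 ↔ u = v := ⟨D.eq_of_add, fun h => by rw [h, D.two]⟩

theorem ne {p : AddSubgroup L} (hp : p ∈ PP) : ∃ v ∈ p, v ≠ 0 := by
  by_contra hcon
  push Not at hcon
  have h1 : p = ⊥ := (AddSubgroup.eq_bot_iff_forall p).2 hcon
  have h2 := D.card p hp
  rw [h1, AddSubgroup.card_bot] at h2
  have := D.hq
  omega

theorem neT {p : AddSubgroup L} (hp : p ∈ PP) : ∃ φ ∈ T p, φ ≠ 0 := by
  by_contra hcon
  push Not at hcon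
  have h1 : T p = ⊥ := (AddSubgroup.eq_bot_iff_forall (T p)).2 hcon
  have h2 := D.cardT p hp
  rw [h1, AddSubgroup.card_bot] at h2
  have := D.hq
  omega

/-- (1) -/
theorem inj {p x : AddSubgroup L} (hp : p ∈ PP) (hx : x ∈ PP) {η : L →+ L} (hη : η ∈ T p) {b : L} (hb : b ∈ x)
    (hb0 : b ≠ 0) (h : η b = 0) : ∀ v ∈ x, η v = 0 := by
  intro v hv
  by_cases hpx : p = x
  · subst hpx
    exact D.ker p hp η hη v hv
  · obtain ⟨y, hy, h1, -⟩ := D.move p hp η hη x hx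
    have hby : b ∈ y := by simpa [h] using h1 b hb
    have hxy := D.ti x hx y hy b hb hby hb0
    subst hxy
    have h2 : η v ∈ x := by simpa using x.sub_mem (h1 v hv) hv
    by_contra h0
    exact hpx (D.ti p hp x hx _ (D.im p hp η hη v) h2 h0)

theorem adj_ne {p x : AddSubgroup L} (hp : p ∈ PP) (h : Adj T p x) : p ≠ x := by
  rintro rfl
  obtain ⟨η, hη, v, hv, h0⟩ := h
  exact h0 (D.ker p hp η hη v hv)

variable [Finite L]

/-- the nonzero elements of `T p` have the same kernel -/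
theorem kerT {p : AddSubgroup L} (hp : p ∈ PP) {φ : L →+ L} (hφ : φ ∈ T p) (h0 : φ ≠ 0) {v : L} (hv : φ v = 0) :
    v ∈ perp T p := by
  intro ψ hψ
  by_contra hne
  let f : T p → p := fun η => ⟨η.1 v, D.im p hp η.1 η.2 v⟩
  have hsurj : Function.Surjective f := by
    intro a
    obtain ⟨ψ', hψ', h1, -⟩ := D.reg p hp ψ hψ v hne a a.2
    exact ⟨⟨ψ', hψ'⟩, Subtype.ext h1⟩
  have : Finite (L →+ L) := Finite.of_injective (fun f : L →+ L => (f : L → L)) DFunLike.coe_injective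
  have hbij : Function.Bijective f := hsurj.bijective_of_nat_card_le (by rw [D.cardT p hp, D.card p hp])
  have h1 : f ⟨φ, hφ⟩ = f ⟨0, (T p).zero_mem⟩ := Subtype.ext (by
    show φ v = (0 : L →+ L) v
    rw [hv, AddMonoidHom.zero_apply])
  exact h0 (congrArg Subtype.val (hbij.1 h1))

theorem kerT_iff {p : AddSubgroup L} (hp : p ∈ PP) {φ : L →+ L} (hφ : φ ∈ T p) (h0 : φ ≠ 0) {v : L} :
    φ v = 0 ↔ v ∈ perp T p := ⟨D.kerT hp hφ h0, fun h => h φ hφ⟩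

omit [Finite L] in
/-- `T p` does not kill `v ∈ x`, `v ≠ 0`, if `p` and `x` are adjacent -/
theorem notMem_perp {p x : AddSubgroup L} (hp : p ∈ PP) (hx : x ∈ PP) (h : Adj T p x) {v : L} (hv : v ∈ x)
    (hv0 : v ≠ 0) : v ∉ perp T p := by
  intro h1
  obtain ⟨η, hη, b, hb, hb0⟩ := h
  exact hb0 (D.inj hp hx hη hv hv0 (h1 η hη) b hb)

omit [Finite L] in
theorem adj_iff {p x : AddSubgroup L} (hp : p ∈ PP) (hx : x ∈ PP) {v : L} (hv : v ∈ x) (hv0 : v ≠ 0) :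
    Adj T p x ↔ v ∉ perp T p := by
  refine ⟨fun h => D.notMem_perp hp hx h hv hv0, fun h => ?_⟩
  rw [mem_perp] at h
  push Not at h
  obtain ⟨η, hη, h1⟩ := h
  exact ⟨η, hη, v, hv, h1⟩

omit D [Finite L] in
theorem mem_perp_of_not {p x : AddSubgroup L} (h : ¬ Adj T p x) {v : L} (hv : v ∈ x) : v ∈ perp T p := by
  intro η hη
  by_contra h0
  exact h ⟨η, hη, v, hv, h0⟩

theorem apply_ne {p x : AddSubgroup L} (hp : p ∈ PP) (hx : x ∈ PP) (h : Adj T p x) {φ : L →+ L} (hφ : φ ∈ T p)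
    (h0 : φ ≠ 0) {v : L} (hv : v ∈ x) (hv0 : v ≠ 0) : φ v ≠ 0 := fun h1 =>
  D.notMem_perp hp hx h hv hv0 (D.kerT hp hφ h0 h1)

/-- (a) adjacency is symmetric -/
theorem symm {p x : AddSubgroup L} (hp : p ∈ PP) (hx : x ∈ PP) (h : Adj T p x) : Adj T x p := by
  by_contra hcon
  have hk : ∀ ψ ∈ T x, ∀ v ∈ p, ψ v = 0 := fun ψ hψ v hv => mem_perp_of_not hcon hv ψ hψ
  obtain ⟨φ, hφ, hφ0⟩ := D.neT hp
  obtain ⟨ψ, hψ, hψ0⟩ := D.neT hx
  obtain ⟨u, hu⟩ : ∃ u, ψ u ≠ 0 := by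
    by_contra hc
    push Not at hc
    exact hψ0 (by ext v; exact hc v)
  have h1 := D.cl p hp x hx φ hφ ψ hψ (hk ψ hψ)
  have h2 : φ.comp ψ ≠ 0 := fun h3 => D.apply_ne hp hx h hφ hφ0 (D.im x hx ψ hψ u) hu (DFunLike.congr_fun h3 u)
  obtain ⟨v, hv, hv0⟩ := D.ne hx
  refine D.notMem_perp hp hx h hv hv0 (D.kerT hp h1 h2 ?_)
  show φ (ψ v) = 0
  rw [D.ker x hx ψ hψ v hv, map_zero]

theorem symm_iff {p x : AddSubgroup L} (hp : p ∈ PP) (hx : x ∈ PP) : Adj T p x ↔ Adj T x p :=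
  ⟨D.symm hp hx, D.symm hx hp⟩

/-- `x`, `y` adjacent, `b ∈ y` nonzero: some `η ∈ T x` maps `b` to `a ∈ x` -/
theorem exists_map {x y : AddSubgroup L} (hx : x ∈ PP) (hy : y ∈ PP) (h : Adj T x y) {a b : L} (ha : a ∈ x)
    (hb : b ∈ y) (hb0 : b ≠ 0) : ∃ η ∈ T x, η b = a := by
  obtain ⟨φ, hφ, hφ0⟩ := D.neT hx
  obtain ⟨η, hη, h1, -⟩ := D.reg x hx φ hφ b (D.apply_ne hx hy h hφ hφ0 hb hb0) a ha
  exact ⟨η, hη, h1⟩

omit [Finite L] in
theorem add_ne {x y : AddSubgroup L} (hx : x ∈ PP) (hy : y ∈ PP) (hxy : x ≠ y) {a b : L} (ha : a ∈ x) (hb : b ∈ y)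
    (ha0 : a ≠ 0) : a + b ≠ 0 := fun h => hxy (D.ti x hx y hy a ha (by rw [D.eq_of_add h]; exact hb) ha0)

/-- (b) -/
theorem add_point {x y : AddSubgroup L} (hx : x ∈ PP) (hy : y ∈ PP) (h : Adj T x y) {a b : L} (ha : a ∈ x)
    (hb : b ∈ y) (hb0 : b ≠ 0) : ∃ u ∈ PP, a + b ∈ u := by
  obtain ⟨η, hη, h1⟩ := D.exists_map hx hy h ha hb hb0
  obtain ⟨u, hu, h2, -⟩ := D.move x hx η hη y hy
  refine ⟨u, hu, ?_⟩
  have := h2 b hb
  rwa [h1, add_comm] at this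

/-- (c) -/
theorem add_of {p x z : AddSubgroup L} (hp : p ∈ PP) (hx : x ∈ PP) (hz : z ∈ PP) (hpx : ¬ Adj T p x)
    (hzp : Adj T z p) (hzx : Adj T z x) {a b : L} (ha : a ∈ p) (ha0 : a ≠ 0) (hb : b ∈ x) (hb0 : b ≠ 0)
    (hv : a + b ∉ perp T z) : ∃ u ∈ PP, a + b ∈ u := by
  obtain ⟨c, hc, hc0⟩ := D.ne hz
  obtain ⟨η, hη, h1⟩ := D.exists_map hz hp hzp hc ha ha0
  have hη0 : η ≠ 0 := by rintro rfl; exact hc0 (by rw [← h1]; rfl)
  obtain ⟨y, hy, h2, -, h3, -⟩ := D.move z hz η hη p hp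
  have hay : a + c ∈ y := by have := h2 a ha; rwa [h1] at this
  obtain ⟨w, hw, hbw⟩ := D.add_point hz hx hzx hc hb hb0
  have hzp' := D.adj_ne hz hzp
  have hzx' := D.adj_ne hz hzx
  have hbc0 : c + b ≠ 0 := D.add_ne hz hx hzx' hc hb hc0
  have hyw : Adj T y w := by
    obtain ⟨τ, hτ, hτ0⟩ := D.neT hp
    obtain ⟨τ', hτ', h4⟩ := h3 τ hτ
    refine ⟨τ', hτ', c + b, hbw, ?_⟩
    rw [h4]
    have e1 : c + b + η (c + b) = (c + η b) + b := by
      rw [map_add, D.ker z hz η hη c hc]; abel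
    have hd : c + η b ∈ z := z.add_mem hc (D.im z hz η hη b)
    have hd0 : c + η b ≠ 0 := by
      intro h0
      apply hv
      refine D.kerT hz hη hη0 ?_
      rw [map_add, h1]
      exact h0
    have e2 : τ (c + b + η (c + b)) = τ (c + η b) := by
      rw [e1, map_add, mem_perp_of_not hpx hb τ hτ, add_zero]
    have hpz : Adj T p z := D.symm hz hp hzp
    have h5 : τ (c + η b) ≠ 0 := D.apply_ne hp hz hpz hτ hτ0 hd hd0
    rw [e2]
    intro h6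
    have h7 := D.eq_of_add h6
    exact hzp' (D.ti z hz p hp _ (D.im z hz η hη (τ (c + η b))) (by rw [← h7]; exact D.im p hp τ hτ _)
      (by rw [← h7]; exact h5))
  obtain ⟨u, hu, h4⟩ := D.add_point hy hw hyw hay hbw hbc0
  refine ⟨u, hu, ?_⟩
  have e : a + c + (c + b) = a + b := by
    calc a + c + (c + b) = a + (c + c) + b := by abel
      _ = a + b := by rw [D.two, add_zero]
  rwa [e] at h4

/-- (d), the essential case -/
theorem step {p x z w : AddSubgroup L} (hp : p ∈ PP) (hx : x ∈ PP) (hz : z ∈ PP) (hw : w ∈ PP)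
    (hpx : ¬ Adj T p x) (hzp : Adj T z p) (hzx : Adj T z x) (hwp : Adj T w p) (hwx : ¬ Adj T w x) {v : L}
    (hv : v ∉ perp T w)
    (hk : ∀ y ∈ PP, Adj T y p → Adj T y x → v ∈ perp T y) : False := by
  have hxp : ¬ Adj T x p := fun h => hpx (D.symm hx hp h)
  have hxw : ¬ Adj T x w := fun h => hwx (D.symm hx hw h)
  have hpw : Adj T p w := D.symm hw hp hwp
  -- w. l. o. g. `z` and `w` are adjacent
  obtain ⟨z, hz, hzp, hzx, hwz⟩ : ∃ z ∈ PP, Adj T z p ∧ Adj T z x ∧ Adj T w z := by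
    by_cases hwz : Adj T w z
    · exact ⟨z, hz, hzp, hzx, hwz⟩
    obtain ⟨τ, hτ, hτ0⟩ := D.neT hp
    obtain ⟨z', hz', h1, -⟩ := D.move p hp τ hτ z hz
    obtain ⟨c, hc, hc0⟩ := D.ne hz
    have hpz : Adj T p z := D.symm hz hp hzp
    have hτc : τ c ≠ 0 := D.apply_ne hp hz hpz hτ hτ0 hc hc0
    have hτcp : τ c ∈ p := D.im p hp τ hτ c
    have hc' := h1 c hc
    refine ⟨z', hz', D.symm hp hz' ⟨τ, hτ, c + τ c, hc', ?_⟩, ?_, ?_⟩
    · rw [map_add, D.ker p hp τ hτ _ hτcp, add_zero]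
      exact hτc
    · obtain ⟨σ, hσ, hσ0⟩ := D.neT hx
      refine D.symm hx hz' ⟨σ, hσ, c + τ c, hc', ?_⟩
      rw [map_add, mem_perp_of_not hxp hτcp σ hσ, add_zero]
      exact D.apply_ne hx hz (D.symm hz hx hzx) hσ hσ0 hc hc0
    · obtain ⟨φ, hφ, hφ0⟩ := D.neT hw
      refine ⟨φ, hφ, c + τ c, hc', ?_⟩
      rw [map_add, mem_perp_of_not hwz hc φ hφ, zero_add]
      exact D.apply_ne hw hp hwp hφ hφ0 hτcp hτc
  have hzw : Adj T z w := D.symm hw hz hwz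
  have hzw' := D.adj_ne hz hzw
  obtain ⟨c, hc, hc0⟩ := D.ne hz
  obtain ⟨τ, hτ, hτ0⟩ := D.neT hp
  have key : ∀ η ∈ T w, η ≠ 0 → τ c = τ (η c) := by
    intro η hη hη0
    obtain ⟨y, hy, h1, -, h3, -⟩ := D.move w hw η hη z hz
    have hc' := h1 c hc
    have hηc : η c ∈ w := D.im w hw η hη c
    have hyv : v ∉ perp T y := by
      obtain ⟨ρ, hρ, hρ0⟩ := D.neT hz
      obtain ⟨ρ', hρ', h4⟩ := h3 ρ hρ
      intro h5
      have h6 := h5 ρ' hρ'
      rw [h4, map_add, hk z hz hzp hzx ρ hρ, zero_add] at h6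
      have hηv : η v ≠ 0 := fun h0 => hv (D.kerT hw hη hη0 h0)
      have h7 : ρ (η v) ≠ 0 := D.apply_ne hz hw hzw hρ hρ0 (D.im w hw η hη v) hηv
      have h8 := D.eq_of_add h6
      exact hzw' (D.ti z hz w hw _ (D.im z hz ρ hρ (η v)) (by rw [h8]; exact D.im w hw η hη _) h7)
    have hyx : Adj T y x := by
      obtain ⟨σ, hσ, hσ0⟩ := D.neT hx
      refine D.symm hx hy ⟨σ, hσ, c + η c, hc', ?_⟩
      rw [map_add, mem_perp_of_not hxw hηc σ hσ, add_zero]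
      exact D.apply_ne hx hz (D.symm hz hx hzx) hσ hσ0 hc hc0
    have hyp : ¬ Adj T y p := fun h => hyv (hk y hy h hyx)
    have h9 : ¬ Adj T p y := fun h => hyp (D.symm hp hy h)
    have h10 := mem_perp_of_not h9 hc' τ hτ
    rw [map_add] at h10
    exact D.eq_of_add h10
  -- two different nonzero elements of `T w`
  obtain ⟨η₁, hη₁, hη₁0, η₂, hη₂, hη₂0, hne⟩ : ∃ η₁ ∈ T w, η₁ ≠ 0 ∧ ∃ η₂ ∈ T w, η₂ ≠ 0 ∧ η₁ ≠ η₂ := by
    obtain ⟨η₁, hη₁, hη₁0⟩ := D.neT hw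
    refine ⟨η₁, hη₁, hη₁0, ?_⟩
    by_contra hcon
    push Not at hcon
    have : Finite (L →+ L) := Finite.of_injective (fun f : L →+ L => (f : L → L)) DFunLike.coe_injective
    have h1 : ((T w : AddSubgroup (L →+ L)) : Set (L →+ L)) ⊆ {0, η₁} := by
      intro η hη
      by_cases h0 : η = 0
      · exact Or.inl h0
      · exact Or.inr (hcon η hη h0).symm
    have h2 : ((T w : AddSubgroup (L →+ L)) : Set (L →+ L)).ncard ≤ 2 :=
      (Set.ncard_le_ncard h1).trans (Set.ncard_insert_le _ _ |>.trans (by simp))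
    have h3 : ((T w : AddSubgroup (L →+ L)) : Set (L →+ L)).ncard = q := D.cardT w hw
    have := D.hq
    omega
  have h1 := (key η₁ hη₁ hη₁0).symm.trans (key η₂ hη₂ hη₂0)
  have h2 : τ (η₁ c - η₂ c) = 0 := by rw [map_sub, h1, sub_self]
  have h3 : η₁ c - η₂ c = 0 := by
    by_contra h0
    exact D.apply_ne hp hw hpw hτ hτ0 (w.sub_mem (D.im w hw η₁ hη₁ c) (D.im w hw η₂ hη₂ c)) h0 h2
  exact D.apply_ne hw hz hwz ((T w).sub_mem hη₁ hη₂) (sub_ne_zero.2 hne) hc hc0 (by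
    rw [AddMonoidHom.sub_apply]; exact h3)

/-- (d) -/
theorem exists_common_ne {p x z w : AddSubgroup L} (hp : p ∈ PP) (hx : x ∈ PP) (hz : z ∈ PP) (hw : w ∈ PP)
    (hpx : ¬ Adj T p x) (hzp : Adj T z p) (hzx : Adj T z x) {a b : L} (ha : a ∈ p) (hb : b ∈ x)
    (hv : a + b ∉ perp T w) : ∃ y ∈ PP, Adj T y p ∧ Adj T y x ∧ a + b ∉ perp T y := by
  by_contra hcon
  push Not at hcon
  by_cases hwp : Adj T w p <;> by_cases hwx : Adj T w x
  · exact hv (hcon w hw hwp hwx)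
  · exact D.step hp hx hz hw hpx hzp hzx hwp hwx hv hcon
  · exact D.step hx hp hz hw (fun h => hpx (D.symm hx hp h)) hzx hzp hwx hwp hv
      (fun y hy h1 h2 => hcon y hy h2 h1)
  · exact hv ((perp T w).add_mem (mem_perp_of_not hwp ha) (mem_perp_of_not hwx hb))

/-- (e) diameter 2 -/
theorem common (conn : ∀ p ∈ PP, ∀ x ∈ PP, Relation.ReflTransGen (fun a b => a ∈ PP ∧ b ∈ PP ∧ Adj T a b) p x)
    {p x : AddSubgroup L} (hp : p ∈ PP) (hx : x ∈ PP) :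
    p = x ∨ Adj T p x ∨ ∃ z ∈ PP, Adj T z p ∧ Adj T z x := by
  have h := conn p hp x hx
  clear hx
  induction h with
  | refl => exact Or.inl rfl
  | @tail y x _ h2 ih =>
    obtain ⟨hy, hx, hyx⟩ := h2
    by_cases hpx : Adj T p x
    · exact Or.inr (Or.inl hpx)
    rcases ih with rfl | h3 | ⟨z, hz, hzp, hzy⟩
    · exact absurd hyx hpx
    · exact Or.inr (Or.inr ⟨y, hy, D.symm hp hy h3, hyx⟩)
    · by_cases hzx : Adj T z x
      · exact Or.inr (Or.inr ⟨z, hz, hzp, hzx⟩)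
      by_cases hpy : Adj T p y
      · exact Or.inr (Or.inr ⟨y, hy, D.symm hp hy hpy, hyx⟩)
      obtain ⟨a, ha, ha0⟩ := D.ne hz
      obtain ⟨b, hb, hb0⟩ := D.ne hy
      obtain ⟨u, hu, hab⟩ := D.add_point hz hy hzy ha hb hb0
      refine Or.inr (Or.inr ⟨u, hu, D.symm hp hu ?_, D.symm hx hu ?_⟩)
      · obtain ⟨τ, hτ, hτ0⟩ := D.neT hp
        refine ⟨τ, hτ, a + b, hab, ?_⟩
        rw [map_add, mem_perp_of_not hpy hb τ hτ, add_zero]
        exact D.apply_ne hp hz (D.symm hz hp hzp) hτ hτ0 ha ha0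
      · obtain ⟨σ, hσ, hσ0⟩ := D.neT hx
        refine ⟨σ, hσ, a + b, hab, ?_⟩
        have hxz : ¬ Adj T x z := fun h => hzx (D.symm hx hz h)
        rw [map_add, mem_perp_of_not hxz ha σ hσ, zero_add]
        exact D.apply_ne hx hy (D.symm hy hx hyx) hσ hσ0 hb hb0

section conn

variable (conn : ∀ p ∈ PP, ∀ x ∈ PP, Relation.ReflTransGen (fun a b => a ∈ PP ∧ b ∈ PP ∧ Adj T a b) p x)
  (nk : ∀ p ∈ PP, ∀ x ∈ PP, p ≠ x → ∀ a ∈ p, a ≠ 0 → ∀ b ∈ x, b ≠ 0 → ∃ w ∈ PP, a + b ∉ perp T w)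
include conn nk

/-- the sum of two vectors of different points is in a point -/
theorem exists_point_add {p x : AddSubgroup L} (hp : p ∈ PP) (hx : x ∈ PP) {a b : L} (ha : a ∈ p) (ha0 : a ≠ 0)
    (hb : b ∈ x) (hb0 : b ≠ 0) : ∃ u ∈ PP, a + b ∈ u := by
  by_cases hpx : p = x
  · subst hpx
    exact ⟨p, hp, p.add_mem ha hb⟩
  by_cases hadj : Adj T p x
  · exact D.add_point hp hx hadj ha hb hb0
  rcases D.common conn hp hx with h | h | ⟨z, hz, hzp, hzx⟩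
  · exact absurd h hpx
  · exact absurd h hadj
  · obtain ⟨w, hw, hv⟩ := nk p hp x hx hpx a ha ha0 b hb hb0
    obtain ⟨y, hy, hyp, hyx, hv'⟩ := D.exists_common_ne hp hx hz hw hadj hzp hzx ha hb hv
    exact D.add_of hp hx hy hadj hyp hyx ha ha0 hb hb0 hv'

/-- **every vector `≠ 0` of the group generated by the points is in a point** -/
theorem mem_point {v : L} (hv : v ∈ ⨆ p ∈ PP, p) (hv0 : v ≠ 0) : ∃ x ∈ PP, v ∈ x := by
  let U : AddSubgroup L :=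
    { carrier := {v | v = 0 ∨ ∃ x ∈ PP, v ∈ x}
      zero_mem' := Or.inl rfl
      add_mem' := by
        rintro a b (rfl | ⟨x, hx, ha⟩) (rfl | ⟨y, hy, hb⟩)
        · left; simp
        · right; exact ⟨y, hy, by rwa [zero_add]⟩
        · right; exact ⟨x, hx, by rwa [add_zero]⟩
        · by_cases ha0 : a = 0
          · right; exact ⟨y, hy, by rwa [ha0, zero_add]⟩
          by_cases hb0 : b = 0
          · right; exact ⟨x, hx, by rwa [hb0, add_zero]⟩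
          right
          exact D.exists_point_add conn nk hx hy ha ha0 hb hb0
      neg_mem' := by
        rintro a ha
        rw [Set.mem_ofPred_eq, D.neg_eq]
        exact ha }
  have hU : (⨆ p ∈ PP, p) ≤ U := iSup₂_le fun p hp v hv => Or.inr ⟨p, hp, hv⟩
  exact (hU hv).resolve_left hv0

end conn

/-- `φ` maps `x` onto `p` if `p`, `x` are adjacent -/
theorem exists_preim {p x : AddSubgroup L} (hp : p ∈ PP) (hx : x ∈ PP) (h : Adj T p x) {φ : L →+ L} (hφ : φ ∈ T p)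
    (h0 : φ ≠ 0) {a : L} (ha : a ∈ p) : ∃ b ∈ x, φ b = a := by
  let f : x → p := fun v => ⟨φ v, D.im p hp φ hφ v⟩
  have hinj : Function.Injective f := by
    intro u v he
    have he' : φ u = φ v := congrArg Subtype.val he
    apply Subtype.ext
    by_contra hne
    refine D.apply_ne hp hx h hφ h0 (x.sub_mem u.2 v.2) (sub_ne_zero.2 hne) ?_
    rw [map_sub, he', sub_self]
  have hbij : Function.Bijective f := hinj.bijective_of_nat_card_le (by rw [D.card p hp, D.card x hx])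
  obtain ⟨b, hb⟩ := hbij.2 ⟨a, ha⟩
  exact ⟨b, b.2, congrArg Subtype.val hb⟩

/-- `L = perp c + z` for adjacent `c`, `z` -/
theorem perp_add {c z : AddSubgroup L} (hc : c ∈ PP) (hz : z ∈ PP) (h : Adj T c z) (v : L) :
    ∃ u ∈ perp T c, ∃ b ∈ z, v = u + b := by
  obtain ⟨φ, hφ, h0⟩ := D.neT hc
  obtain ⟨b, hb, h1⟩ := D.exists_preim hc hz h hφ h0 (D.im c hc φ hφ v)
  refine ⟨v - b, D.kerT hc hφ h0 (by rw [map_sub, h1, sub_self]), b, hb, by abel⟩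

/-- (f) -/
theorem perp_inj (hall : ∀ v : L, v ≠ 0 → ∃ x ∈ PP, v ∈ x) {c x : AddSubgroup L} (hc : c ∈ PP) (hx : x ∈ PP)
    (h : perp T c = perp T x) : c = x := by
  by_contra hne
  have hcx : ¬ Adj T c x := by
    intro h1
    obtain ⟨v, hv, hv0⟩ := D.ne hx
    refine D.notMem_perp hc hx h1 hv hv0 ?_
    rw [h]
    exact fun η hη => D.ker x hx η hη v hv
  obtain ⟨φ, hφ, hφ0⟩ := D.neT hc
  obtain ⟨u, hu⟩ : ∃ u, φ u ≠ 0 := by
    by_contra hcon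
    push Not at hcon
    exact hφ0 (by ext v; exact hcon v)
  have hu0 : u ≠ 0 := by rintro rfl; exact hu (map_zero _)
  obtain ⟨z, hz, huz⟩ := hall u hu0
  have hcz : Adj T c z := ⟨φ, hφ, u, huz, hu⟩
  have hxz : Adj T x z := by
    rw [D.adj_iff hx hz huz hu0, ← h]
    exact D.notMem_perp hc hz hcz huz hu0
  obtain ⟨ψ, hψ, hψ0⟩ := D.neT hz
  obtain ⟨a, ha, ha0⟩ := D.ne hc
  obtain ⟨b, hb, hb1⟩ := D.exists_preim hz hx (D.symm hx hz hxz) hψ hψ0 (D.im z hz ψ hψ a)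
  have hab0 : a + b ≠ 0 := D.add_ne hc hx hne ha hb ha0
  obtain ⟨y, hy, haby⟩ := hall _ hab0
  have hψab : ψ (a + b) = 0 := by rw [map_add, hb1, D.two]
  have hyz : ¬ Adj T y z := by
    intro h1
    exact (D.adj_iff hz hy haby hab0).1 (D.symm hy hz h1) (D.kerT hz hψ hψ0 hψab)
  -- `T y` kills `perp T c`
  have hkill : ∀ v ∈ perp T c, v ∈ perp T y := by
    intro v hv
    by_cases hv0 : v = 0
    · rw [hv0]; exact (perp T y).zero_mem
    obtain ⟨w, hw, hvw⟩ := hall v hv0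
    have h1 : ¬ Adj T c w := fun h2 => (D.adj_iff hc hw hvw hv0).1 h2 hv
    have h2 : ¬ Adj T x w := fun h3 => (D.adj_iff hx hw hvw hv0).1 h3 (by rw [← h]; exact hv)
    have h3 : ¬ Adj T w c := fun h4 => h1 (D.symm hw hc h4)
    have h4 : ¬ Adj T w x := fun h5 => h2 (D.symm hw hx h5)
    have h5 : a + b ∈ perp T w := (perp T w).add_mem (mem_perp_of_not h3 ha) (mem_perp_of_not h4 hb)
    have h6 : ¬ Adj T w y := fun h7 => (D.adj_iff hw hy haby hab0).1 h7 h5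
    exact mem_perp_of_not (fun h7 => h6 (D.symm hy hw h7)) hvw
  obtain ⟨ρ, hρ, hρ0⟩ := D.neT hy
  apply hρ0
  ext v
  obtain ⟨u', hu', b', hb', rfl⟩ := D.perp_add hc hz hcz v
  rw [map_add, hkill u' hu' ρ hρ, mem_perp_of_not hyz hb' ρ hρ, add_zero]
  rfl

end Dat

end Cfsg.Agent.Omega.OmThm.SP

end

-- merged: Cfsg.Agent.Omega.OmThm.GrpSP
section

/-!
# LEMMA TT and LEMMA SP for subgroups (bb OMEGA #17612, #19952 (1))

`N` is an elementary abelian 2-group, `Pt` a set of subgroups of `N` of order `q ≥ 3` (points) which meet pairwise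
trivially and generate `N`, `X p` (for a point `p`) a group with `[N, X p] ≤ p`, `[p, X p] = 1` which permutes the points
(and the groups `X x`), regular in the sense of `reg`.

`GD.mem_point` : if no product `a b ≠ 1` of elements of two points centralises all `X p`, the (symmetrised) graph
'some element of `X p` moves `x`' is connected, and some `X p` moves `N`, then **every element `≠ 1` of `N` lies in a
point**.
-/

set_option autoImplicit false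
set_option linter.unusedSectionVars false

namespace Cfsg.Agent.Omega.OmThm.Grp

open Subgroup
open scoped Pointwise IsMulCommutative

universe u

variable {G : Type u} [Group G]

/-- The group-theoretic data common to TT, SP and PtGeo. -/
structure GB (N : Subgroup G) (Pt : Set (Subgroup G)) (X : Subgroup G → Subgroup G) (q : ℕ) : Prop where
  comm : ∀ x ∈ N, ∀ y ∈ N, x * y = y * x
  sq : ∀ x ∈ N, x * x = 1
  le : ∀ p ∈ Pt, p ≤ N
  card : ∀ p ∈ Pt, Nat.card p = q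
  ti : ∀ p ∈ Pt, ∀ x ∈ Pt, ∀ v ∈ p, v ∈ x → v ≠ 1 → p = x
  XN : ∀ p ∈ Pt, ∀ w ∈ X p, ∀ v ∈ N, w * v * w⁻¹ * v⁻¹ ∈ p
  Xp : ∀ p ∈ Pt, ∀ w ∈ X p, ∀ v ∈ p, w * v = v * w
  mv : ∀ p ∈ Pt, ∀ w ∈ X p, ∀ x ∈ Pt, MulAut.conj w • x ∈ Pt
  Xc : ∀ p ∈ Pt, ∀ w ∈ X p, ∀ x ∈ Pt, X (MulAut.conj w • x) = MulAut.conj w • X x
  cardT : ∀ p ∈ Pt, ∀ x ∈ Pt, (centralizer (N : Set G)).relIndex (X p) = (centralizer (N : Set G)).relIndex (X x)
  span : N ≤ sSup Pt

/-- The group-theoretic data of TT / SP. -/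
structure GD (N : Subgroup G) (Pt : Set (Subgroup G)) (X : Subgroup G → Subgroup G) (q : ℕ) : Prop
    extends GB N Pt X q where
  hq : 3 ≤ q
  reg : ∀ x ∈ Pt, ∀ w ∈ X x, ∀ b ∈ N, w * b ≠ b * w → ∀ z ∈ x, ∃ w' ∈ X x, w' * b * w'⁻¹ * b⁻¹ = z ∧
    ∀ v ∈ N, w * v = v * w → w' * v = v * w'

section pt

variable (N : Subgroup G) [IsMulCommutative N]

/-- the additive subgroup of `p` -/
def pt (p : Subgroup G) : AddSubgroup (Additive N) := Subgroup.toAddSubgroup (p.subgroupOf N)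

variable {N}

theorem mem_pt {p : Subgroup G} {v : Additive N} : v ∈ pt N p ↔ ((v.toMul : N) : G) ∈ p := Iff.rfl

theorem pt_inj {p x : Subgroup G} (hp : p ≤ N) (hx : x ≤ N) (h : pt N p = pt N x) : p = x := by
  have key : ∀ {p x : Subgroup G}, p ≤ N → pt N p = pt N x → p ≤ x := by
    intro p x hp h v hv
    have h1 : Additive.ofMul (⟨v, hp hv⟩ : N) ∈ pt N p := hv
    rw [h] at h1
    exact h1
  exact le_antisymm (key hp h) (key hx h.symm)

/-- `η` is the commutator map of `w` -/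
def IsC (w : G) (η : Additive N →+ Additive N) : Prop :=
  ∀ v : Additive N, (((η v).toMul : N) : G) = w * ((v.toMul : N) : G) * w⁻¹ * ((v.toMul : N) : G)⁻¹

/-- the commutator maps of the elements of `X p` -/
def SS (Pt : Set (Subgroup G)) (X : Subgroup G → Subgroup G) (A : AddSubgroup (Additive N)) :
    Set (Additive N →+ Additive N) := {η | ∃ p ∈ Pt, A = pt N p ∧ ∃ w ∈ X p, IsC w η}

/-- the group `T p` -/
def TT (Pt : Set (Subgroup G)) (X : Subgroup G → Subgroup G) (A : AddSubgroup (Additive N)) :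
    AddSubgroup (Additive N →+ Additive N) := AddSubgroup.closure (SS Pt X A)

theorem exists_isC (w : G) (hw : ∀ v ∈ N, w * v * w⁻¹ * v⁻¹ ∈ N) : ∃ η : Additive N →+ Additive N, IsC w η := by
  refine ⟨MonoidHom.toAdditive
    { toFun := fun v => ⟨w * v * w⁻¹ * (v : G)⁻¹, hw v v.2⟩
      map_one' := Subtype.ext (by simp)
      map_mul' := fun a b => Subtype.ext ?_ }, fun v => rfl⟩
  change w * ((a : G) * b) * w⁻¹ * ((a : G) * b)⁻¹ = w * (a : G) * w⁻¹ * (a : G)⁻¹ * (w * (b : G) * w⁻¹ * (b : G)⁻¹)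
  have h1 : (a : G)⁻¹ * (w * (b : G) * w⁻¹ * (b : G)⁻¹) = (w * (b : G) * w⁻¹ * (b : G)⁻¹) * (a : G)⁻¹ :=
    congrArg Subtype.val (mul_comm (a⁻¹ : N) ⟨_, hw b b.2⟩)
  calc w * ((a : G) * b) * w⁻¹ * ((a : G) * b)⁻¹ = w * (a : G) * w⁻¹ * ((w * (b : G) * w⁻¹ * (b : G)⁻¹) * (a : G)⁻¹) := by
        group
    _ = w * (a : G) * w⁻¹ * ((a : G)⁻¹ * (w * (b : G) * w⁻¹ * (b : G)⁻¹)) := by rw [h1]
    _ = _ := by group

theorem isC_uniq {w : G} {η η' : Additive N →+ Additive N} (h : IsC w η) (h' : IsC w η') : η = η' := by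
  exact DFunLike.ext _ _ fun v => Subtype.ext ((h v).trans (h' v).symm)

theorem isC_conj {w : G} {η : Additive N →+ Additive N} (h : IsC w η) (v : Additive N) :
    (((v + η v).toMul : N) : G) = w * ((v.toMul : N) : G) * w⁻¹ := by
  have h1 : (((v + η v).toMul : N) : G) = (((η v + v).toMul : N) : G) := by rw [add_comm]
  rw [h1]
  change (((η v).toMul : N) : G) * ((v.toMul : N) : G) = _
  rw [h v]
  group

theorem isC_zero {w : G} {η : Additive N →+ Additive N} (h : IsC w η) {v : Additive N} :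
    η v = 0 ↔ w * ((v.toMul : N) : G) = ((v.toMul : N) : G) * w := by
  have h1 : η v = 0 ↔ (((η v).toMul : N) : G) = 1 := by
    constructor
    · intro e; rw [e]; rfl
    · intro e; exact Subtype.ext e
  rw [h1, h v, mul_inv_eq_one, mul_inv_eq_iff_eq_mul]

end pt

namespace GB

variable {N : Subgroup G} {Pt : Set (Subgroup G)} {X : Subgroup G → Subgroup G} {q : ℕ}

variable [IsMulCommutative N] (D : GB N Pt X q)
include D

theorem two (v : Additive N) : v + v = 0 := Subtype.ext (D.sq _ (v.toMul : N).2)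

/-- `T p` consists of the commutator maps of `X p`. -/
theorem mem_TT {p : Subgroup G} (hp : p ∈ Pt) {η : Additive N →+ Additive N} :
    η ∈ TT Pt X (pt N p) ↔ ∃ w ∈ X p, IsC w η := by
  let K : AddSubgroup (Additive N →+ Additive N) :=
    { carrier := {η | ∃ w ∈ X p, IsC w η}
      zero_mem' := ⟨1, one_mem _, fun v => by simp⟩
      add_mem' := by
        rintro η η' ⟨w, hw, h1⟩ ⟨w', hw', h2⟩
        refine ⟨w * w', mul_mem hw hw', fun v => ?_⟩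
        change (((η v).toMul : N) : G) * (((η' v).toMul : N) : G) = _
        have h3 : w * (((η' v).toMul : N) : G) = (((η' v).toMul : N) : G) * w := by
          refine D.Xp p hp w hw _ ?_
          rw [h2 v]
          exact D.XN p hp w' hw' _ (v.toMul : N).2
        have h4 : (((η v).toMul : N) : G) * (((η' v).toMul : N) : G) = (((η' v).toMul : N) : G) * (((η v).toMul : N) : G) :=
          congrArg Subtype.val (mul_comm ((η v).toMul : N) ((η' v).toMul : N))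
        rw [h4]
        have h5 : w * w' * ((v.toMul : N) : G) * (w * w')⁻¹ * ((v.toMul : N) : G)⁻¹ =
            (w * (w' * ((v.toMul : N) : G) * w'⁻¹ * ((v.toMul : N) : G)⁻¹)) * ((v.toMul : N) : G) * w⁻¹ *
              ((v.toMul : N) : G)⁻¹ := by group
        rw [h5, ← h2 v, h3, h1 v]
        group
      neg_mem' := by
        rintro η ⟨w, hw, h1⟩
        have e : -η = η := by
          exact DFunLike.ext _ _ fun v => neg_eq_of_add_eq_zero_left (D.two _)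
        exact ⟨w, hw, by rw [e]; exact h1⟩ }
  constructor
  · intro h
    have h1 : TT Pt X (pt N p) ≤ K := by
      refine (AddSubgroup.closure_le K).2 ?_
      rintro η ⟨p', hp', he, w, hw, h2⟩
      have := pt_inj (D.le p hp) (D.le p' hp') he
      subst this
      exact ⟨w, hw, h2⟩
    exact h1 h
  · rintro ⟨w, hw, h1⟩
    exact AddSubgroup.subset_closure ⟨p, hp, rfl, w, hw, h1⟩

theorem exists_of {p : Subgroup G} (hp : p ∈ Pt) {w : G} (hw : w ∈ X p) :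
    ∃ η ∈ TT Pt X (pt N p), IsC w η := by
  obtain ⟨η, h⟩ := exists_isC w fun v hv => D.le p hp (D.XN p hp w hw v hv)
  exact ⟨η, (D.mem_TT hp).2 ⟨w, hw, h⟩, h⟩

/-- `η (η v) = 0` -/
theorem etaeta {p : Subgroup G} (hp : p ∈ Pt) {w : G} (hw : w ∈ X p) {η : Additive N →+ Additive N}
    (h : IsC w η) (v : Additive N) : η (η v) = 0 := by
  rw [isC_zero h]
  refine D.Xp p hp w hw _ ?_
  rw [h v]
  exact D.XN p hp w hw _ (v.toMul : N).2

/-- `w⁻¹ v w = w v w⁻¹` -/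
theorem inv_conj {p : Subgroup G} (hp : p ∈ Pt) {w : G} (hw : w ∈ X p) {v : G} (hv : v ∈ N) :
    w⁻¹ * v * w = w * v * w⁻¹ := by
  have h1 := D.XN p hp w hw v hv
  set e := w * v * w⁻¹ * v⁻¹ with he
  have h2 := D.Xp p hp w hw e h1
  have h3 : w * v * w⁻¹ = e * v := by rw [he]; group
  have h4 := D.sq e (D.le p hp h1)
  have h5 : w * (e * v) * w⁻¹ = v := by
    calc w * (e * v) * w⁻¹ = (w * e) * v * w⁻¹ := by group
      _ = e * (w * v * w⁻¹) := by rw [h2]; group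
      _ = (e * e) * v := by rw [h3]; group
      _ = v := by rw [h4, one_mul]
  rw [h3]
  calc w⁻¹ * v * w = w⁻¹ * (w * (e * v) * w⁻¹) * w := by rw [h5]
    _ = e * v := by group

theorem im {p : Subgroup G} (hp : p ∈ Pt) {η : Additive N →+ Additive N} (hη : η ∈ TT Pt X (pt N p))
    (v : Additive N) : η v ∈ pt N p := by
  obtain ⟨w, hw, h⟩ := (D.mem_TT hp).1 hη
  rw [mem_pt, h v]
  exact D.XN p hp w hw _ (v.toMul : N).2

theorem ker {p : Subgroup G} (hp : p ∈ Pt) {η : Additive N →+ Additive N} (hη : η ∈ TT Pt X (pt N p))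
    {v : Additive N} (hv : v ∈ pt N p) : η v = 0 := by
  obtain ⟨w, hw, h⟩ := (D.mem_TT hp).1 hη
  rw [isC_zero h]
  exact D.Xp p hp w hw _ hv

theorem ti' {p x : Subgroup G} (hp : p ∈ Pt) (hx : x ∈ Pt) {v : Additive N} (h1 : v ∈ pt N p) (h2 : v ∈ pt N x)
    (h0 : v ≠ 0) : pt N p = pt N x := by
  rw [D.ti p hp x hx _ h1 h2 fun e => h0 (Subtype.ext e)]

theorem move {p : Subgroup G} (hp : p ∈ Pt) {η : Additive N →+ Additive N} (hη : η ∈ TT Pt X (pt N p))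
    {x : Subgroup G} (hx : x ∈ Pt) : ∃ y ∈ Pt, (∀ u ∈ pt N x, u + η u ∈ pt N y) ∧ (∀ v ∈ pt N y, v + η v ∈ pt N x) ∧
    (∀ τ ∈ TT Pt X (pt N x), ∃ τ' ∈ TT Pt X (pt N y), ∀ v, τ' v = τ (v + η v) + η (τ (v + η v))) ∧
    ∀ τ ∈ TT Pt X (pt N y), ∃ τ' ∈ TT Pt X (pt N x), ∀ v, τ' v = τ (v + η v) + η (τ (v + η v)) := by
  obtain ⟨w, hw, h⟩ := (D.mem_TT hp).1 hη
  have hy := D.mv p hp w hw x hx
  have hX := D.Xc p hp w hw x hx
  -- `(1 + η) τ (1 + η)` is the commutator map of `w t w⁻¹` and of `w⁻¹ t w`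
  have key : ∀ {τ τ' : Additive N →+ Additive N} {t : G}, IsC t τ → IsC (w * t * w⁻¹) τ' → ∀ v,
      τ' v = τ (v + η v) + η (τ (v + η v)) := by
    intro τ τ' t h1 h2 v
    refine Subtype.ext ?_
    change ((τ' v).toMul : G) = (((τ (v + η v) + η (τ (v + η v))).toMul : N) : G)
    rw [h2 v, isC_conj h, h1, isC_conj h, ← D.inv_conj hp hw (v.toMul : N).2]
    group
  have key' : ∀ {τ τ' : Additive N →+ Additive N} {t : G}, IsC t τ → IsC (w⁻¹ * t * w) τ' → ∀ v,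
      τ' v = τ (v + η v) + η (τ (v + η v)) := by
    intro τ τ' t h1 h2 v
    refine Subtype.ext ?_
    change ((τ' v).toMul : G) = (((τ (v + η v) + η (τ (v + η v))).toMul : N) : G)
    have h3 : ((((τ (v + η v))).toMul : N) : G) = t * (w * ((v.toMul : N) : G) * w⁻¹) * t⁻¹ *
        (w * ((v.toMul : N) : G) * w⁻¹)⁻¹ := by rw [h1, isC_conj h]
    rw [h2 v, isC_conj h, ← D.inv_conj hp hw (((τ (v + η v))).toMul : N).2, h3]
    group
  refine ⟨_, hy, ?_, ?_, ?_, ?_⟩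
  · intro u hu
    rw [mem_pt, isC_conj h]
    exact ⟨_, hu, rfl⟩
  · intro v hv
    rw [mem_pt] at hv ⊢
    obtain ⟨x0, hx0, e⟩ := hv
    replace e : w * x0 * w⁻¹ = ((v.toMul : N) : G) := e
    rw [isC_conj h, ← D.inv_conj hp hw (v.toMul : N).2, ← e]
    have e2 : w⁻¹ * (w * x0 * w⁻¹) * w = x0 := by group
    rw [e2]
    exact hx0
  · intro τ hτ
    obtain ⟨t, ht, h1⟩ := (D.mem_TT hx).1 hτ
    obtain ⟨τ', hτ', h2⟩ := D.exists_of hy (w := w * t * w⁻¹) (by rw [hX]; exact ⟨t, ht, rfl⟩)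
    exact ⟨τ', hτ', key h1 h2⟩
  · intro τ hτ
    obtain ⟨t, ht, h1⟩ := (D.mem_TT hy).1 hτ
    rw [hX] at ht
    obtain ⟨t0, ht0, e⟩ := ht
    replace e : w * t0 * w⁻¹ = t := e
    have e2 : t0 = w⁻¹ * t * w := by rw [← e]; group
    obtain ⟨τ', hτ', h2⟩ := D.exists_of hx ht0
    rw [e2] at h2
    exact ⟨τ', hτ', key' h1 h2⟩

theorem cl {p x : Subgroup G} (hp : p ∈ Pt) (hx : x ∈ Pt) {φ ψ : Additive N →+ Additive N}
    (hφ : φ ∈ TT Pt X (pt N p)) (hψ : ψ ∈ TT Pt X (pt N x)) (h0 : ∀ v ∈ pt N p, ψ v = 0) :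
    φ.comp ψ ∈ TT Pt X (pt N p) := by
  obtain ⟨w, hw, h1⟩ := (D.mem_TT hp).1 hφ
  obtain ⟨t, ht, h2⟩ := (D.mem_TT hx).1 hψ
  have htp : MulAut.conj t • p = p := by
    have h3 : ∀ v ∈ p, t * v = v * t := by
      intro v hv
      exact (isC_zero h2 (v := Additive.ofMul (⟨v, D.le p hp hv⟩ : N))).1 (h0 _ hv)
    ext v
    constructor
    · rintro ⟨u, hu, rfl⟩
      change t * u * t⁻¹ ∈ p
      rw [h3 u hu, mul_inv_cancel_right]
      exact hu
    · intro hv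
      refine ⟨v, hv, ?_⟩
      change t * v * t⁻¹ = v
      rw [h3 v hv, mul_inv_cancel_right]
  have h3 : t * w⁻¹ * t⁻¹ ∈ X p := by
    have h4 := D.Xc x hx t ht p hp
    rw [htp] at h4
    rw [h4]
    exact ⟨w⁻¹, inv_mem hw, rfl⟩
  refine (D.mem_TT hp).2 ⟨w * (t * w⁻¹ * t⁻¹), mul_mem hw h3, fun v => ?_⟩
  -- conjugation by `w t w⁻¹ t⁻¹`
  have e1 : ψ (φ v) = 0 := h0 _ (D.im hp hφ v)
  set v1 := v + ψ v with hv1
  set v2 := v1 + φ v1 with hv2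
  set v3 := v2 + ψ v2 with hv3
  set v4 := v3 + φ v3 with hv4
  have f1 : ((v1.toMul : N) : G) = t⁻¹ * ((v.toMul : N) : G) * t := by
    rw [hv1, isC_conj h2, D.inv_conj hx ht (v.toMul : N).2]
  have f2 : ((v2.toMul : N) : G) = w⁻¹ * ((v1.toMul : N) : G) * w := by
    rw [hv2, isC_conj h1, D.inv_conj hp hw (v1.toMul : N).2]
  have f3 : ((v3.toMul : N) : G) = t * ((v2.toMul : N) : G) * t⁻¹ := by rw [hv3, isC_conj h2]
  have f4 : ((v4.toMul : N) : G) = w * ((v3.toMul : N) : G) * w⁻¹ := by rw [hv4, isC_conj h1]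
  have e2 : v4 = v + φ (ψ v) := by
    have a1 : ψ (ψ v) = 0 := D.etaeta hx ht h2 v
    have a2 : φ (φ v) = 0 := D.etaeta hp hw h1 v
    have a3 : φ (φ (ψ v)) = 0 := D.etaeta hp hw h1 (ψ v)
    have a4 : ψ (φ (ψ v)) = 0 := h0 _ (D.im hp hφ _)
    have b2 : v2 = v + ψ v + φ v + φ (ψ v) := by
      rw [hv2, hv1, map_add]; abel
    have b3 : v3 = v + φ v + φ (ψ v) := by
      rw [hv3, b2]
      simp only [map_add, a1, e1, a4, add_zero]
      calc v + ψ v + φ v + φ (ψ v) + ψ v = v + φ v + φ (ψ v) + (ψ v + ψ v) := by abel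
        _ = _ := by rw [D.two, add_zero]
    rw [hv4, b3]
    simp only [map_add, a2, a3, add_zero]
    calc v + φ v + φ (ψ v) + φ v = v + φ (ψ v) + (φ v + φ v) := by abel
      _ = _ := by rw [D.two, add_zero]
  have e3 : (((v + φ (ψ v)).toMul : N) : G) = w * (t * w⁻¹ * t⁻¹) * ((v.toMul : N) : G) * (w * (t * w⁻¹ * t⁻¹))⁻¹ := by
    rw [← e2, f4, f3, f2, f1]
    group
  have e4 : (((v + φ (ψ v)).toMul : N) : G) = (((φ (ψ v)).toMul : N) : G) * ((v.toMul : N) : G) := by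
    rw [add_comm]; rfl
  change (((φ (ψ v)).toMul : N) : G) = _
  rw [← e3, e4]
  group

/-- `|T p| = |X p : C_{X p}(N)|` -/
theorem card_TT {p : Subgroup G} (hp : p ∈ Pt) :
    Nat.card (TT Pt X (pt N p)) = (centralizer (N : Set G)).relIndex (X p) := by
  set K := (centralizer (N : Set G)).subgroupOf (X p) with hK
  have hex : ∀ w : X p, ∃ η : TT Pt X (pt N p), IsC (w : G) η.1 := fun w => by
    obtain ⟨η, hη, h⟩ := D.exists_of hp w.2
    exact ⟨⟨η, hη⟩, h⟩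
  choose f hf using hex
  have hfe : ∀ w w' : X p, w⁻¹ * w' ∈ K ↔ f w = f w' := by
    intro w w'
    constructor
    · intro h
      have h1 : (w : G)⁻¹ * (w' : G) ∈ centralizer (N : Set G) := h
      refine Subtype.ext (isC_uniq (hf w) ?_)
      intro v
      rw [hf w' v]
      have h2 := mem_centralizer_iff.1 h1 _ (v.toMul : N).2
      have h3 : (w' : G) * ((v.toMul : N) : G) * (w' : G)⁻¹ = (w : G) * ((v.toMul : N) : G) * (w : G)⁻¹ := by
        calc (w' : G) * ((v.toMul : N) : G) * (w' : G)⁻¹ =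
            (w : G) * (((w : G)⁻¹ * (w' : G)) * ((v.toMul : N) : G)) * (w' : G)⁻¹ := by group
          _ = (w : G) * (((v.toMul : N) : G) * ((w : G)⁻¹ * (w' : G))) * (w' : G)⁻¹ := by rw [h2]
          _ = _ := by group
      rw [h3]
    · intro h
      change (w : G)⁻¹ * (w' : G) ∈ centralizer (N : Set G)
      refine mem_centralizer_iff.2 fun v hv => ?_
      have h1 := hf w (Additive.ofMul (⟨v, hv⟩ : N))
      have h2 := hf w' (Additive.ofMul (⟨v, hv⟩ : N))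
      rw [← h, h1] at h2
      have h3 : (w : G) * v * (w : G)⁻¹ = (w' : G) * v * (w' : G)⁻¹ := mul_right_cancel h2
      calc v * ((w : G)⁻¹ * (w' : G)) = (w : G)⁻¹ * ((w : G) * v * (w : G)⁻¹) * (w' : G) := by group
        _ = (w : G)⁻¹ * ((w' : G) * v * (w' : G)⁻¹) * (w' : G) := by rw [h3]
        _ = _ := by group
  let g : X p ⧸ K → TT Pt X (pt N p) := fun c => f c.out
  have hg : Function.Bijective g := by
    constructor
    · intro c c' h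
      rw [← QuotientGroup.out_eq' c, ← QuotientGroup.out_eq' c']
      exact QuotientGroup.eq.2 ((hfe _ _).2 h)
    · intro η
      obtain ⟨w, hw, h⟩ := (D.mem_TT hp).1 η.2
      refine ⟨QuotientGroup.mk ⟨w, hw⟩, ?_⟩
      have h1 : f (⟨w, hw⟩ : X p) = η := Subtype.ext (isC_uniq (hf ⟨w, hw⟩) h)
      rw [← h1]
      refine ((hfe _ _).1 ?_).symm
      exact QuotientGroup.eq.1 (QuotientGroup.out_eq' _).symm
  rw [← Nat.card_eq_of_bijective g hg]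
  rfl

theorem card' {p : Subgroup G} (hp : p ∈ Pt) : Nat.card (pt N p) = q := by
  rw [← D.card p hp]
  exact Nat.card_congr
    { toFun := fun v => ⟨((v.1.toMul : N) : G), v.2⟩
      invFun := fun v => ⟨Additive.ofMul (⟨v, D.le p hp v.2⟩ : N), v.2⟩
      left_inv := fun v => rfl
      right_inv := fun v => rfl }

theorem span' : (⨆ p ∈ (pt N '' Pt), p) = (⊤ : AddSubgroup (Additive N)) := by
  rw [eq_top_iff]
  set A : AddSubgroup (Additive N) := ⨆ p ∈ (pt N '' Pt), p with hA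
  have h1 : N ≤ (AddSubgroup.toSubgroup' A).map N.subtype := by
    refine D.span.trans (sSup_le fun p hp v hv => ?_)
    refine ⟨⟨v, D.le p hp hv⟩, ?_, rfl⟩
    have h2 : pt N p ≤ A := by
      rw [hA]
      exact le_iSup₂_of_le (pt N p) ⟨p, hp, rfl⟩ le_rfl
    exact h2 (x := Additive.ofMul (⟨v, D.le p hp hv⟩ : N)) hv
  intro v _
  obtain ⟨u, hu, e⟩ := h1 (v.toMul : N).2
  have e' : u = (v.toMul : N) := Subtype.ext e
  rw [e'] at hu
  exact hu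

/-- the graph of the points -/
def _root_.Cfsg.Agent.Omega.OmThm.Grp.Mv (X : Subgroup G → Subgroup G) (p x : Subgroup G) : Prop :=
  ¬ X p ≤ centralizer (x : Set G)

theorem adj_of {p x : Subgroup G} (hp : p ∈ Pt) (hx : x ∈ Pt) (h : Mv X p x) :
    OmThm.TT.Adj (TT Pt X) (pt N p) (pt N x) := by
  obtain ⟨w, hw, hwx⟩ := SetLike.not_le_iff_exists.1 h
  obtain ⟨η, hη, h1⟩ := D.exists_of hp hw
  obtain ⟨v, hv, hne⟩ : ∃ v ∈ x, w * v ≠ v * w := by
    by_contra hcon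
    push Not at hcon
    exact hwx (mem_centralizer_iff.2 fun v hv => (hcon v hv).symm)
  exact ⟨η, hη, Additive.ofMul (⟨v, D.le x hx hv⟩ : N), hv, fun e => hne ((isC_zero h1).1 e)⟩

end GB

namespace GD

variable {N : Subgroup G} {Pt : Set (Subgroup G)} {X : Subgroup G → Subgroup G} {q : ℕ}

variable [IsMulCommutative N] (D : GD N Pt X q)
include D

theorem reg' {x : Subgroup G} (hx : x ∈ Pt) {ψ : Additive N →+ Additive N} (hψ : ψ ∈ TT Pt X (pt N x))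
    {b : Additive N} (hb : ψ b ≠ 0) {a : Additive N} (ha : a ∈ pt N x) :
    ∃ ψ' ∈ TT Pt X (pt N x), ψ' b = a ∧ ∀ v, ψ v = 0 → ψ' v = 0 := by
  obtain ⟨w, hw, h⟩ := (D.mem_TT hx).1 hψ
  have h1 : w * ((b.toMul : N) : G) ≠ ((b.toMul : N) : G) * w := fun e => hb ((isC_zero h).2 e)
  obtain ⟨w', hw', h2, h3⟩ := D.reg x hx w hw _ (b.toMul : N).2 h1 _ ha
  obtain ⟨ψ', hψ', h4⟩ := D.exists_of hx hw'
  refine ⟨ψ', hψ', Subtype.ext ?_, fun v hv => ?_⟩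
  · exact (h4 b).trans h2
  · rw [isC_zero h4]
    exact h3 _ (v.toMul : N).2 ((isC_zero h).1 hv)

theorem mem_point_aux [Finite G]
    (conn : ∀ p ∈ Pt, ∀ x ∈ Pt, Relation.ReflTransGen (fun a b => a ∈ Pt ∧ b ∈ Pt ∧ (Mv X a b ∨ Mv X b a)) p x)
    (nk : ∀ p ∈ Pt, ∀ x ∈ Pt, ∀ a ∈ p, ∀ b ∈ x, a * b ≠ 1 → ∃ w ∈ Pt, ∃ g ∈ X w, g * (a * b) ≠ (a * b) * g)
    (hne : ∃ p ∈ Pt, ¬ X p ≤ centralizer (N : Set G)) {v : G} (hv : v ∈ N) (hv1 : v ≠ 1) : ∃ p ∈ Pt, v ∈ p := by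
  have hfin0 : Finite (Additive N) := inferInstanceAs (Finite N)
  have hfin : Finite (Additive N →+ Additive N) :=
    Finite.of_injective (fun f : Additive N →+ Additive N => (f : Additive N → Additive N)) DFunLike.coe_injective
  have hv0 : Additive.ofMul (⟨v, hv⟩ : N) ≠ 0 := fun e => hv1 (congrArg (fun t : Additive N => ((t.toMul : N) : G)) e)
  have conn' : (∀ p ∈ pt N '' Pt, ∀ x ∈ pt N '' Pt, OmThm.TT.Adj (TT Pt X) p x → OmThm.TT.Adj (TT Pt X) x p) →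
      ∀ p ∈ pt N '' Pt, ∀ x ∈ pt N '' Pt, Relation.ReflTransGen
      (fun a b => a ∈ pt N '' Pt ∧ b ∈ pt N '' Pt ∧ OmThm.TT.Adj (TT Pt X) a b) p x := by
    rintro hsym _ ⟨p, hp, rfl⟩ _ ⟨x, hx, rfl⟩
    refine Relation.ReflTransGen.lift (pt N) (fun a b h => ?_) _ _ (conn p hp x hx)
    refine ⟨⟨a, h.1, rfl⟩, ⟨b, h.2.1, rfl⟩, ?_⟩
    rcases h.2.2 with h1 | h1
    · exact D.adj_of h.1 h.2.1 h1
    · exact hsym _ ⟨b, h.2.1, rfl⟩ _ ⟨a, h.1, rfl⟩ (D.adj_of h.2.1 h.1 h1)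
  -- `a + b` is not killed
  have nk' : ∀ p ∈ Pt, ∀ x ∈ Pt, ∀ a ∈ pt N p, ∀ b ∈ pt N x, a + b ≠ 0 →
      ∃ w ∈ Pt, ∃ η ∈ TT Pt X (pt N w), η (a + b) ≠ 0 := by
    intro p hp x hx a ha b hb hab
    obtain ⟨w, hw, g, hg, h⟩ := nk p hp x hx _ ha _ hb fun e => hab (Subtype.ext e)
    obtain ⟨η, hη, h1⟩ := D.exists_of hw hg
    exact ⟨w, hw, η, hη, fun e => h ((isC_zero h1).1 e)⟩
  -- `|T p| ≥ q`
  obtain ⟨p₀, hp₀, hne₀⟩ := hne
  have hge : q ≤ (centralizer (N : Set G)).relIndex (X p₀) := by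
    obtain ⟨w, hw, hwN⟩ := SetLike.not_le_iff_exists.1 hne₀
    obtain ⟨η, hη, h1⟩ := D.exists_of hp₀ hw
    obtain ⟨b, hb⟩ : ∃ b, η b ≠ 0 := by
      by_contra hcon
      push Not at hcon
      refine hwN (mem_centralizer_iff.2 fun v hv => ?_)
      exact ((isC_zero h1 (v := Additive.ofMul (⟨v, hv⟩ : N))).1 (hcon _)).symm
    rw [← D.card_TT hp₀, ← D.card' hp₀]
    refine Nat.card_le_card_of_surjective (fun τ : TT Pt X (pt N p₀) => (⟨τ.1 b, D.im hp₀ τ.2 b⟩ : pt N p₀)) ?_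
    intro a
    obtain ⟨ψ', hψ', h2, -⟩ := D.reg' hp₀ hη hb a.2
    exact ⟨⟨ψ', hψ'⟩, Subtype.ext h2⟩
  have hcard : ∀ p ∈ Pt, Nat.card (TT Pt X (pt N p)) = (centralizer (N : Set G)).relIndex (X p₀) :=
    fun p hp => (D.card_TT hp).trans (D.cardT p hp p₀ hp₀)
  have hfinal : ∃ x ∈ pt N '' Pt, Additive.ofMul (⟨v, hv⟩ : N) ∈ x := by
    rcases hge.eq_or_lt with heq | hlt
    · -- `|T p| = q`
      have E : SP.Dat (pt N '' Pt) (TT Pt X) q :=
        { two := D.two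
          hq := D.hq
          card := by rintro _ ⟨p, hp, rfl⟩; exact D.card' hp
          ti := by rintro _ ⟨p, hp, rfl⟩ _ ⟨x, hx, rfl⟩ v h1 h2 h0; exact D.ti' hp hx h1 h2 h0
          im := by rintro _ ⟨p, hp, rfl⟩ η hη v; exact D.im hp hη v
          ker := by rintro _ ⟨p, hp, rfl⟩ η hη v hv; exact D.ker hp hη hv
          move := by
            rintro _ ⟨p, hp, rfl⟩ η hη _ ⟨x, hx, rfl⟩
            obtain ⟨y, hy, h⟩ := D.move hp hη hx
            exact ⟨_, ⟨y, hy, rfl⟩, h⟩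
          cl := by rintro _ ⟨p, hp, rfl⟩ _ ⟨x, hx, rfl⟩ φ hφ ψ hψ h0; exact D.cl hp hx hφ hψ h0
          reg := by rintro _ ⟨x, hx, rfl⟩ ψ hψ b hb a ha; exact D.reg' hx hψ hb ha
          cardT := by rintro _ ⟨p, hp, rfl⟩; exact (hcard p hp).trans heq.symm }
      refine E.mem_point (conn' fun p hp x hx h => E.symm hp hx h) ?_ (by rw [D.span']; exact AddSubgroup.mem_top _) hv0
      rintro _ ⟨p, hp, rfl⟩ _ ⟨x, hx, rfl⟩ hpx a ha ha0 b hb hb0
      obtain ⟨w, hw, η, hη, h⟩ := nk' p hp x hx a ha b hb fun h0 => hpx (D.ti' hp hx ha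
        (by rw [E.eq_of_add h0]; exact hb) ha0)
      exact ⟨_, ⟨w, hw, rfl⟩, fun h1 => h (h1 η hη)⟩
    · -- `|T p| > q`
      have E : OmThm.TT.Dat (pt N '' Pt) (TT Pt X) q :=
        { two := D.two
          card := by rintro _ ⟨p, hp, rfl⟩; exact D.card' hp
          ne := by
            rintro _ ⟨p, hp, rfl⟩
            by_contra hcon
            push Not at hcon
            have h1 : pt N p = ⊥ := (AddSubgroup.eq_bot_iff_forall _).2 hcon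
            have h2 := D.card' hp
            rw [h1, AddSubgroup.card_bot] at h2
            have := D.hq
            omega
          ti := by rintro _ ⟨p, hp, rfl⟩ _ ⟨x, hx, rfl⟩ v h1 h2 h0; exact D.ti' hp hx h1 h2 h0
          im := by rintro _ ⟨p, hp, rfl⟩ η hη v; exact D.im hp hη v
          ker := by rintro _ ⟨p, hp, rfl⟩ η hη v hv; exact D.ker hp hη hv
          move := by
            rintro _ ⟨p, hp, rfl⟩ η hη _ ⟨x, hx, rfl⟩
            obtain ⟨y, hy, h⟩ := D.move hp hη hx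
            exact ⟨_, ⟨y, hy, rfl⟩, h⟩
          cl := by rintro _ ⟨p, hp, rfl⟩ _ ⟨x, hx, rfl⟩ φ hφ ψ hψ h0; exact D.cl hp hx hφ hψ h0
          reg := by rintro _ ⟨x, hx, rfl⟩ ψ hψ b hb a ha; exact D.reg' hx hψ hb ha
          cardT := by rintro _ ⟨p, hp, rfl⟩ _ ⟨x, hx, rfl⟩; rw [hcard p hp, hcard x hx]
          big := by rintro _ ⟨p, hp, rfl⟩; rw [hcard p hp]; exact hlt
          span := D.span'
          rad := by
            rintro _ ⟨p, hp, rfl⟩ _ ⟨x, hx, rfl⟩ η hη η' hη' h v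
            by_contra h0
            obtain ⟨w, hw, τ, hτ, h1⟩ := nk' p hp x hx _ (D.im hp hη v) _ (D.im hx hη' v) h0
            exact h1 (h v _ ⟨w, hw, rfl⟩ τ hτ) }
      have hcls : ∀ x ∈ pt N '' Pt, OmThm.TT.Cls (TT Pt X) (pt N p₀) x := by
        intro x hx
        have h := conn' (fun p hp x hx h => E.symm hp hx h) (pt N p₀) ⟨p₀, hp₀, rfl⟩ x hx
        clear hx
        induction h with
        | refl => exact Or.inl rfl
        | tail _ h2 ih => exact E.cls_trans ⟨p₀, hp₀, rfl⟩ h2.1 h2.2.1 ih (Or.inr h2.2.2)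
      have h1 : (⊤ : AddSubgroup (Additive N)) ≤ E.U (p := pt N p₀) ⟨p₀, hp₀, rfl⟩ := by
        rw [← E.span]
        exact iSup₂_le fun x hx => E.le_U _ hx (hcls x hx)
      obtain ⟨x, hx, h2, -⟩ := h1 (AddSubgroup.mem_top (Additive.ofMul (⟨v, hv⟩ : N)))
      exact ⟨x, hx, h2⟩
  obtain ⟨_, ⟨x, hx, rfl⟩, h⟩ := hfinal
  exact ⟨x, hx, h⟩

omit [IsMulCommutative N] in
/-- **TT + SP: every element `≠ 1` of `N` lies in a point.** -/
theorem mem_point [Finite G]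
    (conn : ∀ p ∈ Pt, ∀ x ∈ Pt, Relation.ReflTransGen (fun a b => a ∈ Pt ∧ b ∈ Pt ∧ (Mv X a b ∨ Mv X b a)) p x)
    (nk : ∀ p ∈ Pt, ∀ x ∈ Pt, ∀ a ∈ p, ∀ b ∈ x, a * b ≠ 1 → ∃ w ∈ Pt, ∃ g ∈ X w, g * (a * b) ≠ (a * b) * g)
    (hne : ∃ p ∈ Pt, ¬ X p ≤ centralizer (N : Set G)) {v : G} (hv : v ∈ N) (hv1 : v ≠ 1) : ∃ p ∈ Pt, v ∈ p := by
  have : IsMulCommutative N := ⟨⟨fun a b => Subtype.ext (D.comm a a.2 b b.2)⟩⟩
  exact D.mem_point_aux conn nk hne hv hv1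

end GD

end Cfsg.Agent.Omega.OmThm.Grp

end
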